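import Cfsg.Prelude.Def_CaseTheorems
import Cfsg.Agent.Lib.AltCarmichael
import Cfsg.Agent.S0252
import Cfsg.Agent.S0804
import Cfsg.Agent.S0810
import Cfsg.Agent.S1000
import Cfsg.Agent.TwoFusion.SLTwoFacts
import Cfsg.Agent.S0249
import Cfsg.Agent.S0255
import Cfsg.Agent.SmallSimple.S1000.PSLFacts
import Cfsg.Agent.H946.ExcNum_m3
import Cfsg.Agent.AGraded.HomFinite
import Cfsg.Agent.Classification.RTwo.UThreeThree
import Cfsg.Agent.Phan.Ext
import Cfsg.Agent.S0281
import Cfsg.Agent.LieClassical.FieldTransfer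
import Cfsg.Agent.CTFrame.Hom
import Cfsg.Agent.ChevalleyStructure.Elts
import Cfsg.Agent.S1025
import Cfsg.Agent.S1076
import Cfsg.Prelude.Def_LieTypes
import Cfsg.Agent.FastGrp
import Cfsg.Agent.Prune
set_option linter.all false

section
prune_inst 0x7ffdbcfbfff87ddedfff7e7faedddffdfbbeffffffdff9cbffe861ffafdf7b1ecdc56bad0beb58fe1ed6e09c10fc7bd3fbfffeffee6ffc7ffffdfff45ffbff8ffdf7bd08719e88b40fbc0ff703f07f8e7f3fffffffffffffffffffffffffffbeffffffffffff

-- part: H46/MinSub
section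
set_option linter.all false
open scoped Cfsg.Agent.FastGrp

/-!
# Minimal simple subgroups (helper46)

`HasMS G`: some subgroup of `G` is a minimal simple group. Transport, `A₅`, `PSL₂`.
-/

set_option autoImplicit false

namespace Cfsg.Agent.H46.MS

open Subgroup Cfsg
open scoped commutatorElement

/-- some subgroup is a minimal simple group -/
def HasMS (G : Type*) [Group G] : Prop := ∃ H : Subgroup G, IsMinimalSimple ↥H

theorem isMulCommutative_congr {G K : Type*} [Group G] [Group K] (e : G ≃* K) (h : IsMulCommutative K) :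
    IsMulCommutative G :=
  ⟨⟨fun a b => e.injective (by rw [map_mul, map_mul]; exact h.is_comm.comm _ _)⟩⟩

theorem isMinimalSimple_congr {G K : Type*} [Group G] [Group K] (e : G ≃* K) (h : IsMinimalSimple G) :
    IsMinimalSimple K := by
  obtain ⟨h1, h2, h3⟩ := h
  refine ⟨e.symm.isSimpleGroup, fun h => h2 (isMulCommutative_congr e h), fun H hH => ?_⟩
  have hne : H.comap e.toMonoidHom ≠ ⊤ := by
    intro ht
    apply hH
    rw [eq_top_iff]
    intro x _
    have : e.symm x ∈ H.comap e.toMonoidHom := by rw [ht]; trivial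
    simpa using this
  have := h3 _ hne
  let f : ↥H →* ↥(H.comap e.toMonoidHom) :=
    { toFun := fun x => ⟨e.symm x.1, by simp⟩
      map_one' := by ext; simp
      map_mul' := fun x y => Subtype.ext (map_mul e.symm x.1 y.1) }
  exact Group.isSolvable_of_isSolvable_injective (f := f) fun x y hxy =>
    Subtype.ext (e.symm.injective (congrArg Subtype.val hxy))

theorem IsMinimalSimple.hasMS {G : Type*} [Group G] (h : IsMinimalSimple G) : HasMS G :=
  ⟨⊤, isMinimalSimple_congr Subgroup.topEquiv.symm h⟩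

/-- a homomorphism with central kernel -/
theorem HasMS.of_hom {G K : Type*} [Group G] [Group K] (f : G →* K) (hf : ∀ x, f x = 1 → x ∈ center G)
    (h : HasMS G) : HasMS K := by
  obtain ⟨H, hH⟩ := h
  have hs := hH.1
  let g : ↥H →* K := f.comp H.subtype
  have hker : g.ker = ⊥ := by
    rcases hs.eq_bot_or_eq_top_of_normal g.ker inferInstance with h | h
    · exact h
    · exfalso
      apply hH.2.1
      refine ⟨⟨fun a b => Subtype.ext ?_⟩⟩
      have ha : a ∈ g.ker := by rw [h]; trivial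
      exact (mem_center_iff.1 (hf a.1 ha) b.1).symm
  have hinj : Function.Injective g := (MonoidHom.ker_eq_bot_iff g).1 hker
  exact ⟨g.range, isMinimalSimple_congr (MonoidHom.ofInjective hinj) hH⟩

theorem HasMS.of_injective {G K : Type*} [Group G] [Group K] (f : G →* K) (hf : Function.Injective f)
    (h : HasMS G) : HasMS K :=
  h.of_hom f fun x hx => by
    rw [(injective_iff_map_eq_one f).1 hf x hx]
    exact one_mem _

theorem HasMS.congr {G K : Type*} [Group G] [Group K] (e : G ≃* K) (h : HasMS G) : HasMS K :=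
  h.of_injective e.toMonoidHom e.injective

theorem HasMS.of_subgroup {G : Type*} [Group G] {H : Subgroup G} (h : HasMS ↥H) : HasMS G :=
  h.of_injective H.subtype H.subtype_injective

theorem HasMS.of_le {G : Type*} [Group G] {H K : Subgroup G} (hHK : H ≤ K) (h : HasMS ↥H) : HasMS ↥K :=
  h.of_injective (Subgroup.inclusion hHK) (Subgroup.inclusion_injective hHK)

/-- quotient by a central subgroup -/
theorem HasMS.quot {G : Type*} [Group G] (N : Subgroup G) [N.Normal] (hN : N ≤ center G) (h : HasMS G) :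
    HasMS (G ⧸ N) :=
  h.of_hom (QuotientGroup.mk' N) fun x hx => hN ((QuotientGroup.eq_one_iff x).1 hx)

theorem HasMS.quot_center {G : Type*} [Group G] (h : HasMS G) : HasMS (G ⧸ center G) :=
  h.quot _ le_rfl

/-- a non-abelian simple group is perfect -/
theorem commutator_eq_top {G : Type*} [Group G] [IsSimpleGroup G] (h : ¬ IsMulCommutative G) :
    commutator G = ⊤ := by
  rcases (inferInstance : IsSimpleGroup G).eq_bot_or_eq_top_of_normal (commutator G) inferInstance with h1 | h1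
  · exfalso
    apply h
    refine ⟨⟨fun a b => ?_⟩⟩
    have : ⁅a, b⁆ ∈ commutator G := commutator_mem_commutator (mem_top a) (mem_top b)
    rw [h1, mem_bot, commutatorElement_eq_one_iff_mul_comm] at this
    exact this
  · exact h1

theorem HasMS.commutator {G : Type*} [Group G] (h : HasMS G) : HasMS ↥(_root_.commutator G) := by
  obtain ⟨H, hH⟩ := h
  have := hH.1
  have hp := commutator_eq_top hH.2.1
  have hle : H ≤ _root_.commutator G := by
    have h1 : (⊤ : Subgroup ↥H).map H.subtype = H := by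
      rw [← MonoidHom.range_eq_map, Subgroup.range_subtype]
    rw [← h1, ← hp]
    unfold _root_.commutator
    rw [map_commutator]
    exact commutator_mono le_top le_top
  refine ⟨H.subgroupOf _, isMinimalSimple_congr (Subgroup.subgroupOfEquivOfLe hle).symm hH⟩

/-! ### `A₅` -/

theorem isMinimalSimple_alt_five : IsMinimalSimple (alternatingGroup (Fin 5)) := by
  have : Fintype (GaloisField 2 2) := Fintype.ofFinite _
  have h4 : Fintype.card (GaloisField 2 2) = 4 := by
    have := GaloisField.card 2 2 (by norm_num)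
    rw [Nat.card_eq_fintype_card] at this
    simpa using this
  obtain ⟨e⟩ := S0252.result h4
  exact isMinimalSimple_congr e ((S0810.result h4).2 (Or.inl ⟨2, Nat.prime_two, by norm_num⟩))

/-- `A₅` from three elements of order three with `(x y)² = 1` -/
theorem hasMS_of_triple {G : Type*} [Group G] (x y z : G) (hx : x ^ 3 = 1) (hy : y ^ 3 = 1) (hz : z ^ 3 = 1)
    (hxy : (x * y) ^ 2 = 1) (hxz : (x * z) ^ 2 = 1) (hyz : (y * z) ^ 2 = 1) (hne : x ≠ 1) : HasMS G := by
  have sw : ∀ a b : G, (a * b) ^ 2 = 1 → (b * a) ^ 2 = 1 := fun a b h => Lib.AltCarmichael.swap_rel h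
  let w : ℕ → G := fun i => if i = 0 then x else if i = 1 then y else z
  have hrel : Lib.AltCarmichael.Rel 3 w := by
    constructor
    · intro i hi
      interval_cases i <;> simpa [w]
    · intro i hi j hj hij
      interval_cases i <;> interval_cases j <;>
        first
          | exact absurd rfl hij
          | exact hxy
          | exact hxz
          | exact hyz
          | exact sw _ _ hxy
          | exact sw _ _ hxz
          | exact sw _ _ hyz
  obtain ⟨e⟩ := Lib.AltCarmichael.nonempty_gen_equiv le_rfl hrel ⟨0, by norm_num, by simpa [w] using hne⟩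
  exact HasMS.of_subgroup (HasMS.congr e.symm (IsMinimalSimple.hasMS isMinimalSimple_alt_five))

theorem hasMS_alt {n : ℕ} (hn : 5 ≤ n) : HasMS (alternatingGroup (Fin n)) := by
  have h3 : ∀ a b c : Fin n, a ≠ b → a ≠ c → b ≠ c → (Equiv.swap a b * Equiv.swap b c) ^ 3 = 1 :=
    fun a b c hab hac hbc => Lib.AltCarmichael.three_cube hab hac hbc
  let a : Fin n := ⟨0, by omega⟩
  let b : Fin n := ⟨1, by omega⟩
  let c : Fin n := ⟨2, by omega⟩
  let d : Fin n := ⟨3, by omega⟩
  let e : Fin n := ⟨4, by omega⟩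
  have hab : a ≠ b := by simp [a, b, Fin.ext_iff]
  have hac : a ≠ c := by simp [a, c, Fin.ext_iff]
  have hbc : b ≠ c := by simp [b, c, Fin.ext_iff]
  have had : a ≠ d := by simp [a, d, Fin.ext_iff]
  have hae : a ≠ e := by simp [a, e, Fin.ext_iff]
  have hbd : b ≠ d := by simp [b, d, Fin.ext_iff]
  have hbe : b ≠ e := by simp [b, e, Fin.ext_iff]
  have hcd : c ≠ d := by simp [c, d, Fin.ext_iff]
  have hce : c ≠ e := by simp [c, e, Fin.ext_iff]
  have hde : d ≠ e := by simp [d, e, Fin.ext_iff]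
  have mem : ∀ i : Fin n, i ≠ d → Equiv.swap i d * Equiv.swap d e ∈ alternatingGroup (Fin n) := by
    intro i hi
    rw [Equiv.Perm.mem_alternatingGroup, map_mul, Equiv.Perm.sign_swap hi, Equiv.Perm.sign_swap hde]
    rfl
  refine hasMS_of_triple ⟨_, mem a had⟩ ⟨_, mem b hbd⟩ ⟨_, mem c hcd⟩ ?_ ?_ ?_ ?_ ?_ ?_ ?_
  · exact Subtype.ext (h3 _ _ _ had hae hde)
  · exact Subtype.ext (h3 _ _ _ hbd hbe hde)
  · exact Subtype.ext (h3 _ _ _ hcd hce hde)
  · exact Subtype.ext (Lib.AltCarmichael.two_sq hab had hae hbd hbe hde)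
  · exact Subtype.ext (Lib.AltCarmichael.two_sq hac had hae hcd hce hde)
  · exact Subtype.ext (Lib.AltCarmichael.two_sq hbc hbd hbe hcd hce hde)
  · intro h
    have h' := congrArg (fun p : Equiv.Perm (Fin n) => p d) (congrArg Subtype.val h)
    simp only [Equiv.Perm.mul_apply, Equiv.swap_apply_left, Subgroup.coe_one, Equiv.Perm.one_apply] at h'
    rw [Equiv.swap_apply_of_ne_of_ne (Ne.symm hae) (Ne.symm hde)] at h'
    exact hde h'.symm

theorem hasMS_of_alt {G : Type*} [Group G] (h : IsAlternating G) : HasMS G := by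
  obtain ⟨n, hn, ⟨e⟩⟩ := h
  exact (hasMS_alt hn).congr e.symm

/-! ### `PSL₂` -/

open Cfsg.Agent.ClassicalGeometry.PSL2Basic in
theorem hasMS_psl_two_of_hom {K L : Type*} [Field K] [Field L] (f : K →+* L)
    (h : HasMS (Matrix.ProjectiveSpecialLinearGroup (Fin 2) K)) :
    HasMS (Matrix.ProjectiveSpecialLinearGroup (Fin 2) L) :=
  h.of_injective _ (pslMap_injective (f := f))

theorem mod_five {q : ℕ} (hq : ¬ 5 ∣ q * (q ^ 2 - 1)) : q % 5 = 2 ∨ q % 5 = 3 := by
  by_contra hc
  push Not at hc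
  apply hq
  rcases Nat.eq_zero_or_pos q with h0 | h0
  · rw [h0]; simp
  obtain ⟨c, rfl⟩ : ∃ c, q = c + 1 := ⟨q - 1, by omega⟩
  have h2 : (c + 1) ^ 2 - 1 = c * (c + 2) := by
    have : (c + 1) ^ 2 = c * (c + 2) + 1 := by ring
    omega
  rw [h2]
  have hcb : c % 5 = 0 ∨ c % 5 = 3 ∨ c % 5 = 4 := by omega
  rcases hcb with h | h | h
  · exact Dvd.dvd.mul_left (Dvd.dvd.mul_right (Nat.dvd_of_mod_eq_zero h) _) _
  · exact Dvd.dvd.mul_left (Dvd.dvd.mul_left (Nat.dvd_of_mod_eq_zero (by omega)) _) _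
  · exact Dvd.dvd.mul_right (Nat.dvd_of_mod_eq_zero (by omega)) _

open Cfsg.Agent.ClassicalGeometry.PSL2Basic in
theorem hasMS_psl_two {F : Type*} [Field F] [Fintype F] (hF : 4 ≤ Fintype.card F) :
    HasMS (Matrix.ProjectiveSpecialLinearGroup (Fin 2) F) := by
  by_cases h5 : 5 ∣ Fintype.card F * (Fintype.card F ^ 2 - 1)
  · obtain ⟨H, ⟨e⟩⟩ := (S0804.result rfl).2 h5
    exact HasMS.of_subgroup (HasMS.congr e.symm (IsMinimalSimple.hasMS isMinimalSimple_alt_five))
  obtain ⟨p, hchar⟩ := CharP.exists F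
  have hp : Fact p.Prime := ⟨CharP.char_is_prime F p⟩
  obtain ⟨n, hpp, hn⟩ := FiniteField.card F p
  have hn0 : (n : ℕ) ≠ 0 := n.pos.ne'
  by_cases hn1 : (n : ℕ) = 1
  · rw [hn1, pow_one] at hn
    refine IsMinimalSimple.hasMS ((S0810.result rfl).2 (Or.inr (Or.inr (Or.inl ⟨hn ▸ hpp, ?_, ?_⟩))))
    · by_contra hc
      push Not at hc
      interval_cases hq : Fintype.card F
      · exact absurd (hn ▸ hpp) (by norm_num)
      · exact h5 (by norm_num)
    · exact mod_five h5
  -- a prime divisor of the degree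
  obtain ⟨r, hr, hrn⟩ := Nat.exists_prime_and_dvd hn1
  obtain ⟨m, hm⟩ := hrn
  have hcard : (p ^ r) ^ m = Fintype.card F := by rw [hn, hm, pow_mul]
  have : Fintype (GaloisField p r) := Fintype.ofFinite _
  have hK : Fintype.card (GaloisField p r) = p ^ r := by
    have := GaloisField.card p r hr.ne_zero
    rwa [Nat.card_eq_fintype_card] at this
  obtain ⟨f⟩ := exists_ringHom_of_card_pow (K := GaloisField p r) (L := F) (m := m) (by rw [hK, hcard])
  apply hasMS_psl_two_of_hom f
  by_cases hp2 : p = 2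
  · subst hp2
    exact IsMinimalSimple.hasMS ((S0810.result hK).2 (Or.inl ⟨r, hr, rfl⟩))
  by_cases hp3 : p = 3
  · subst hp3
    by_cases hr2 : r = 2
    · subst hr2
      obtain ⟨H, ⟨e⟩⟩ := (S0804.result hK).2 (by norm_num)
      exact HasMS.of_subgroup (HasMS.congr e.symm (IsMinimalSimple.hasMS isMinimalSimple_alt_five))
    · exact IsMinimalSimple.hasMS ((S0810.result hK).2 (Or.inr (Or.inl ⟨r, hr, hr2, rfl⟩)))
  -- the prime field
  have h5p : 5 ≤ p := by
    have := hpp.two_le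
    by_contra hc
    push Not at hc
    interval_cases p
    · exact hp2 rfl
    · exact hp3 rfl
    · exact absurd hpp (by norm_num)
  obtain ⟨g⟩ := exists_ringHom_of_card_pow (K := ZMod p) (L := GaloisField p r) (m := r) (by rw [hK, ZMod.card])
  apply hasMS_psl_two_of_hom g
  by_cases h5' : 5 ∣ p * (p ^ 2 - 1)
  · obtain ⟨H, ⟨e⟩⟩ := (S0804.result (ZMod.card p)).2 h5'
    exact HasMS.of_subgroup (HasMS.congr e.symm (IsMinimalSimple.hasMS isMinimalSimple_alt_five))
  · refine IsMinimalSimple.hasMS ((S0810.result (ZMod.card p)).2 (Or.inr (Or.inr (Or.inl ⟨hpp, ?_, ?_⟩))))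
    · rcases Nat.lt_or_ge 5 p with h | h
      · exact h
      · have : p = 5 := by omega
        subst this
        exact absurd (by norm_num) h5'
    · exact mod_five h5'

end Cfsg.Agent.H46.MS
end

-- part: H46/MSChev
section
prune_inst 0x200000006022000000000000000000400000000000400000000000000008000000000000021000100000000000000040000000000000000000000000000000000000000000000000000000000000000000000000000000000000000000000000000000000
set_option linter.all false
open scoped Cfsg.Agent.FastGrp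

-- part: H46/MSLin
section
/-!
# Minimal simple subgroups of the linear groups (helper46)

`hasMS_sl_three`: every `SL₃(F)`, `F` finite, has a minimal simple subgroup.
`hasMS_of_sl_two`: a non-trivial image of `SL₂(F)`, `4 ≤ |F|`, in which the centre dies.
`so`: `SL₂(F) → SO₃(F)` for the standard form.
-/

set_option autoImplicit false

namespace Cfsg.Agent.H46.MS

open Matrix Subgroup Cfsg

theorem hasMS_of_sl_two {F : Type*} [Field F] [Fintype F] (hF : 4 ≤ Fintype.card F) {G : Type*} [Group G]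
    (f : _root_.Matrix.SpecialLinearGroup (Fin 2) F →* G) (hc : ∀ x ∈ center (_root_.Matrix.SpecialLinearGroup (Fin 2) F), f x = 1)
    (hne : ∃ x, f x ≠ 1) : HasMS G := by
  have hs := TwoFusion.SLTwoFacts.isSimpleGroup_psl (F := F) hF
  let g : ProjectiveSpecialLinearGroup (Fin 2) F →* G := QuotientGroup.lift _ f hc
  have hker : g.ker = ⊥ := by
    rcases hs.eq_bot_or_eq_top_of_normal g.ker inferInstance with h | h
    · exact h
    · obtain ⟨x, hx⟩ := hne
      have h1 : (QuotientGroup.mk x : ProjectiveSpecialLinearGroup (Fin 2) F) ∈ g.ker := by rw [h]; trivial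
      exact absurd h1 hx
  exact (hasMS_psl_two hF).of_injective g ((MonoidHom.ker_eq_bot_iff g).1 hker)

/-- the elementary matrix -/
def up (F : Type*) [Field F] : Matrix.SpecialLinearGroup (Fin 2) F := ⟨!![1, 1; 0, 1], by simp [det_fin_two]⟩

/-- characteristic 2: `SL₂(F)` itself -/
theorem hasMS_sl_two_even {F : Type*} [Field F] [Fintype F] (hF : 4 ≤ Fintype.card F) (h2 : (2 : F) = 0) :
    HasMS (_root_.Matrix.SpecialLinearGroup (Fin 2) F) := by
  refine hasMS_of_sl_two hF (MonoidHom.id _) (fun x hx => ?_) ?_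
  · obtain ⟨r, hr, hx⟩ := Matrix.SpecialLinearGroup.mem_center_iff.1 hx
    have hchar : CharP F 2 := CharTwo.of_one_ne_zero_of_two_eq_zero one_ne_zero h2
    have hr1 : r = 1 := by
      rw [Fintype.card_fin] at hr
      have : (r - 1) ^ 2 = 0 := by
        have : (r - 1) ^ 2 = r ^ 2 - 1 + 2 * (1 - r) := by ring
        rw [this, hr, h2]; ring
      exact sub_eq_zero.1 (pow_eq_zero_iff (two_ne_zero) |>.1 this)
    apply Subtype.ext
    change (x : Matrix (Fin 2) (Fin 2) F) = 1
    rw [← hx, hr1, Matrix.scalar_apply]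
    simp
  · refine ⟨up F, fun h => ?_⟩
    have h1 : (1 : F) = 0 :=
      congrArg (fun A : Matrix.SpecialLinearGroup (Fin 2) F => (A : Matrix (Fin 2) (Fin 2) F) 0 1) h
    exact one_ne_zero h1

/-! ### The symmetric square -/

section Sym

variable {F : Type*} [Field F]

/-- the action on the symmetric square -/
def symMat (A : Matrix (Fin 2) (Fin 2) F) : Matrix (Fin 3) (Fin 3) F :=
  !![A 0 0 ^ 2, A 0 0 * A 0 1, A 0 1 ^ 2;
    2 * A 0 0 * A 1 0, A 0 0 * A 1 1 + A 0 1 * A 1 0, 2 * A 0 1 * A 1 1;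
    A 1 0 ^ 2, A 1 0 * A 1 1, A 1 1 ^ 2]

theorem symMat_mul (A B : Matrix (Fin 2) (Fin 2) F) : symMat (A * B) = symMat A * symMat B := by
  ext i j
  (revert i j; simp only [symMat, Matrix.mul_apply, Fin.sum_univ_two, Fin.sum_univ_three, _root_.Fin.forall_fin_succ, Fin.isValue, _root_.Matrix.of_apply, _root_.Matrix.cons_val', _root_.Matrix.cons_val_fin_one, _root_.Matrix.cons_val_zero, _root_.Matrix.cons_val_one, _root_.Matrix.cons_val, _root_.Matrix.cons_val_succ, _root_.forall_const]) <;> (repeat' with_reducible apply And.intro) <;> ring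

theorem symMat_one : symMat (1 : Matrix (Fin 2) (Fin 2) F) = 1 := by
  ext i j
  (revert i j; simp only [symMat, _root_.Fin.forall_fin_succ, _root_.Matrix.one_apply_eq, _root_.one_pow, Fin.isValue, _root_.ne_eq, _root_.zero_ne_one, _root_.not_false_eq_true, _root_.Matrix.one_apply_ne, _root_.MulZeroClass.mul_zero, _root_.OfNat.ofNat_ne_zero, _root_.zero_pow, _root_.mul_one, _root_.one_ne_zero, _root_.add_zero, _root_.Matrix.of_apply, _root_.Matrix.cons_val', _root_.Matrix.cons_val_fin_one, _root_.Matrix.cons_val_zero, _root_.Matrix.cons_val_succ, _root_.IsEmpty.forall_iff, _root_.and_true, Nat.reduceAdd, _root_.Fin.succ_zero_eq_one, _root_.Fin.succ_one_eq_two, Fin.reduceEq, _root_.and_self, _root_.Fin.succ_ne_zero, _root_.true_and])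

theorem det_symMat (A : Matrix (Fin 2) (Fin 2) F) : (symMat A).det = A.det ^ 3 := by
  rw [det_fin_three, det_fin_two]
  simp only [symMat, _root_.Fin.isValue, _root_.Matrix.of_apply, _root_.Matrix.cons_val', _root_.Matrix.cons_val_zero, _root_.Matrix.cons_val_fin_one, _root_.Matrix.cons_val_one, _root_.Matrix.cons_val]
  ring

/-- the invariant form -/
def gramJ : Matrix (Fin 3) (Fin 3) F := !![0, 0, 2; 0, -1, 0; 2, 0, 0]

theorem symMat_gram (A : Matrix (Fin 2) (Fin 2) F) :
    (symMat A)ᵀ * gramJ * symMat A = A.det ^ 2 • gramJ := by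
  ext i j
  (revert i j; simp only [symMat, gramJ, Matrix.mul_apply, Fin.sum_univ_three, det_fin_two, _root_.Fin.forall_fin_succ, Fin.isValue, _root_.Matrix.transpose_apply, _root_.Matrix.of_apply, _root_.Matrix.cons_val', _root_.Matrix.cons_val_fin_one, _root_.Matrix.cons_val_zero, _root_.Matrix.cons_val_one, _root_.Matrix.cons_val, _root_.MulZeroClass.mul_zero, _root_.add_zero, _root_.zero_add, _root_.mul_neg, _root_.mul_one, _root_.neg_mul, _root_.Matrix.smul_apply, _root_.smul_eq_mul, _root_.Matrix.cons_val_succ, _root_.forall_const]) <;> (repeat' with_reducible apply And.intro) <;> ring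

/-- an orthonormal basis -/
def basP (a b : F) : Matrix (Fin 3) (Fin 3) F := !![1 / 2, a / 2, b / 2; 0, b, -a; 1 / 2, -a / 2, -b / 2]

theorem basP_gram (h2 : (2 : F) ≠ 0) {a b : F} (hab : a ^ 2 + b ^ 2 = -1) :
    (basP a b)ᵀ * gramJ * basP a b = 1 := by
  ext i j
  (revert i j; simp only [basP, gramJ, Matrix.mul_apply, Fin.sum_univ_three, _root_.Fin.forall_fin_succ, _root_.one_div, _root_.Matrix.transpose_apply, _root_.Matrix.of_apply, _root_.Matrix.cons_val', _root_.Matrix.cons_val_fin_one, Fin.isValue, _root_.Matrix.cons_val_zero, _root_.Matrix.cons_val_one, _root_.Matrix.cons_val, _root_.MulZeroClass.mul_zero, _root_.add_zero, _root_.zero_add, _root_.mul_neg, _root_.mul_one, _root_.neg_mul, _root_.neg_zero, _root_.Matrix.cons_val_succ, _root_.neg_neg, _root_.IsEmpty.forall_iff, _root_.and_true, _root_.Matrix.one_apply_eq, _root_.MulZeroClass.zero_mul, Nat.reduceAdd, _root_.Fin.succ_zero_eq_one, _root_.ne_eq, _root_.zero_ne_one, _root_.not_false_eq_true,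 _root_.Matrix.one_apply_ne, _root_.Fin.succ_one_eq_two, Fin.reduceEq, _root_.Fin.succ_ne_zero]) <;> (repeat' with_reducible apply And.intro) <;> field_simp <;>
    first
      | ring1
      | linear_combination hab
      | linear_combination (-1 : F) * hab
      | linear_combination (-2 : F) * hab

/-- the dual basis -/
def basQ (a b : F) : Matrix (Fin 3) (Fin 3) F := (basP a b)ᵀ * gramJ

theorem basQ_mul (h2 : (2 : F) ≠ 0) {a b : F} (hab : a ^ 2 + b ^ 2 = -1) : basQ a b * basP a b = 1 :=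
  basP_gram h2 hab

theorem basP_mul (h2 : (2 : F) ≠ 0) {a b : F} (hab : a ^ 2 + b ^ 2 = -1) : basP a b * basQ a b = 1 :=
  mul_eq_one_comm.1 (basQ_mul h2 hab)

theorem gramJ_transpose : (gramJ : Matrix (Fin 3) (Fin 3) F)ᵀ = gramJ := by
  ext i j
  (revert i j; simp only [gramJ, _root_.Fin.forall_fin_succ, _root_.Matrix.transpose_apply, _root_.Matrix.of_apply, _root_.Matrix.cons_val', _root_.Matrix.cons_val_fin_one, Fin.isValue, _root_.Matrix.cons_val_zero, _root_.Matrix.cons_val_succ, _root_.forall_const, _root_.and_self, _root_.implies_true])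

/-- the orthogonal matrix of an element of `SL₂` -/
def soMat (a b : F) (A : Matrix (Fin 2) (Fin 2) F) : Matrix (Fin 3) (Fin 3) F :=
  basQ a b * symMat A * basP a b

theorem soMat_mul (h2 : (2 : F) ≠ 0) {a b : F} (hab : a ^ 2 + b ^ 2 = -1) (A B : Matrix (Fin 2) (Fin 2) F) :
    soMat a b (A * B) = soMat a b A * soMat a b B := by
  unfold soMat
  rw [symMat_mul]
  calc basQ a b * (symMat A * symMat B) * basP a b
      = basQ a b * symMat A * (1 : Matrix _ _ F) * symMat B * basP a b := by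
        rw [Matrix.mul_one]; simp only [Matrix.mul_assoc]
    _ = basQ a b * symMat A * (basP a b * basQ a b) * symMat B * basP a b := by rw [basP_mul h2 hab]
    _ = _ := by simp only [Matrix.mul_assoc]

theorem det_soMat (h2 : (2 : F) ≠ 0) {a b : F} (hab : a ^ 2 + b ^ 2 = -1) (A : Matrix (Fin 2) (Fin 2) F) :
    (soMat a b A).det = A.det ^ 3 := by
  unfold soMat
  rw [det_mul, det_mul, det_symMat]
  have := congrArg det (basQ_mul h2 hab)
  rw [det_mul, det_one] at this
  linear_combination A.det ^ 3 * this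

theorem soMat_transpose (h2 : (2 : F) ≠ 0) {a b : F} (hab : a ^ 2 + b ^ 2 = -1) {A : Matrix (Fin 2) (Fin 2) F}
    (hA : A.det = 1) : (soMat a b A)ᵀ * soMat a b A = 1 := by
  have h1 : (basQ a b)ᵀ * basQ a b = gramJ := by
    have e : (basQ a b)ᵀ = gramJ * basP a b := by
      unfold basQ
      rw [transpose_mul, transpose_transpose, gramJ_transpose]
    rw [e, Matrix.mul_assoc, basP_mul h2 hab, Matrix.mul_one]
  have h3 := symMat_gram A
  rw [hA, one_pow, one_smul] at h3
  unfold soMat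
  rw [transpose_mul, transpose_mul]
  calc (basP a b)ᵀ * ((symMat A)ᵀ * (basQ a b)ᵀ) * (basQ a b * symMat A * basP a b)
      = (basP a b)ᵀ * ((symMat A)ᵀ * ((basQ a b)ᵀ * basQ a b) * symMat A) * basP a b := by
        simp only [Matrix.mul_assoc]
    _ = (basP a b)ᵀ * gramJ * basP a b := by rw [h1, h3]
    _ = 1 := basP_gram h2 hab

/-- `SL₂(F) → SO₃(F) ≤ SL₃(F)` -/
def so (h2 : (2 : F) ≠ 0) {a b : F} (hab : a ^ 2 + b ^ 2 = -1) :
    Matrix.SpecialLinearGroup (Fin 2) F →* Matrix.SpecialLinearGroup (Fin 3) F where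
  toFun A := ⟨soMat a b A.1, by rw [det_soMat h2 hab, A.2, one_pow]⟩
  map_one' := Subtype.ext (by
    change soMat a b (1 : Matrix (Fin 2) (Fin 2) F) = 1
    unfold soMat
    rw [symMat_one, Matrix.mul_one, basQ_mul h2 hab])
  map_mul' A B := Subtype.ext (soMat_mul h2 hab A.1 B.1)

theorem so_transpose (h2 : (2 : F) ≠ 0) {a b : F} (hab : a ^ 2 + b ^ 2 = -1)
    (A : Matrix.SpecialLinearGroup (Fin 2) F) : (so h2 hab A).1ᵀ * (so h2 hab A).1 = 1 :=
  soMat_transpose h2 hab A.2

theorem symMat_eq_one_of_center {A : Matrix.SpecialLinearGroup (Fin 2) F}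
    (hA : A ∈ center (Matrix.SpecialLinearGroup (Fin 2) F)) : symMat A.1 = 1 := by
  obtain ⟨r, hr, hx⟩ := Matrix.SpecialLinearGroup.mem_center_iff.1 hA
  rw [Fintype.card_fin] at hr
  rw [← hx]
  ext i j
  (revert i j; simp only [symMat, Matrix.scalar_apply, hr, ← sq, _root_.Fin.forall_fin_succ, Fin.isValue, _root_.Matrix.diagonal_apply_eq, _root_.ne_eq, _root_.zero_ne_one, _root_.not_false_eq_true, _root_.Matrix.diagonal_apply_ne, _root_.MulZeroClass.mul_zero, _root_.OfNat.ofNat_ne_zero, _root_.zero_pow, _root_.one_ne_zero, _root_.add_zero, _root_.MulZeroClass.zero_mul, _root_.Matrix.of_apply, _root_.Matrix.cons_val', _root_.Matrix.cons_val_fin_one, _root_.Matrix.cons_val_zero, _root_.Matrix.cons_val_succ, _root_.IsEmpty.forall_iff, _root_.and_true, _root_.Matrix.one_apply_eq, Nat.reduceAdd, _root_.Fin.succ_zero_eq_one, _root_.Matrix.one_apply_ne, _root_.Fin.succ_one_eq_two, Fin.reduceEq, _root_.and_self, _root_.Fin.succ_ne_zero, _root_.true_and])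

theorem symMat_up : symMat (up F).1 ≠ 1 := by
  intro h
  have := congrFun (congrFun h 0) 1
  simp [symMat, up] at this

theorem so_eq_one_iff (h2 : (2 : F) ≠ 0) {a b : F} (hab : a ^ 2 + b ^ 2 = -1)
    (A : Matrix.SpecialLinearGroup (Fin 2) F) : so h2 hab A = 1 ↔ symMat A.1 = 1 := by
  constructor
  · intro h
    have h1 : soMat a b A.1 = 1 := congrArg Subtype.val h
    calc symMat A.1 = (basP a b * basQ a b) * symMat A.1 * (basP a b * basQ a b) := by
          rw [basP_mul h2 hab, Matrix.one_mul, Matrix.mul_one]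
      _ = basP a b * soMat a b A.1 * basQ a b := by unfold soMat; simp only [Matrix.mul_assoc]
      _ = 1 := by rw [h1, Matrix.mul_one, basP_mul h2 hab]
  · intro h
    apply Subtype.ext
    change basQ a b * symMat A.1 * basP a b = 1
    rw [h, Matrix.mul_one, basQ_mul h2 hab]

end Sym

theorem exists_sq_add_sq (F : Type*) [Field F] [Finite F] : ∃ a b : F, a ^ 2 + b ^ 2 = -1 := by
  have := Fintype.ofFinite F
  obtain ⟨p, hchar⟩ := CharP.exists F
  have hp : Fact p.Prime := ⟨CharP.char_is_prime F p⟩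
  obtain ⟨a, b, h⟩ := ZMod.sq_add_sq p (-1)
  have f : ZMod p →+* F := ZMod.castHom (dvd_refl p) F
  exact ⟨f a, f b, by rw [← map_pow, ← map_pow, ← map_add, h, map_neg, map_one]⟩

/-- `SO₃` of the standard form: transport along a homomorphism killing nothing but the kernel of `so` -/
theorem hasMS_of_so {F : Type*} [Field F] [Fintype F] (hF : 4 ≤ Fintype.card F) (h2 : (2 : F) ≠ 0)
    {a b : F} (hab : a ^ 2 + b ^ 2 = -1) {G : Type*} [Group G]
    (f : Matrix.SpecialLinearGroup (Fin 2) F →* G)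
    (hf : ∀ A, f A = 1 ↔ so h2 hab A = 1) : HasMS G := by
  refine hasMS_of_sl_two hF f (fun x hx => ?_) ⟨up F, fun h => ?_⟩
  · rw [hf, so_eq_one_iff]
    exact symMat_eq_one_of_center hx
  · rw [hf, so_eq_one_iff] at h
    exact symMat_up h

/-! ### `SL₃` -/

theorem center_sl_three_eq_bot {F : Type*} [Field F] (h : ∀ r : F, r ^ 3 = 1 → r = 1) :
    center (Matrix.SpecialLinearGroup (Fin 3) F) = ⊥ := by
  rw [eq_bot_iff]
  intro x hx
  obtain ⟨r, hr, hx⟩ := Matrix.SpecialLinearGroup.mem_center_iff.1 hx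
  rw [Fintype.card_fin] at hr
  rw [mem_bot]
  apply Subtype.ext
  rw [← hx, h r hr, Matrix.scalar_apply]
  simp

theorem hasMS_of_center_eq_bot {G : Type*} [Group G] (h : center G = ⊥) (hq : HasMS (G ⧸ center G)) : HasMS G :=
  hq.congr ((QuotientGroup.quotientMulEquivOfEq h).trans QuotientGroup.quotientBot)

theorem hasMS_sl_three_map {K L : Type*} [Field K] [Field L] (f : K →+* L)
    (h : HasMS (Matrix.SpecialLinearGroup (Fin 3) K)) : HasMS (Matrix.SpecialLinearGroup (Fin 3) L) :=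
  h.of_injective (Matrix.SpecialLinearGroup.map f) fun A B hAB => by
    apply Subtype.ext
    ext i j
    exact f.injective (congrFun (congrFun (congrArg Subtype.val hAB) i) j)

theorem hasMS_sl_three_two : HasMS (Matrix.SpecialLinearGroup (Fin 3) (ZMod 2)) := by
  have : Fact (Nat.Prime 7) := ⟨by norm_num⟩
  obtain ⟨e⟩ := S0255.result (F := ZMod 7) (K := ZMod 2) (ZMod.card 7) (ZMod.card 2)
  have h7 : HasMS (ProjectiveSpecialLinearGroup (Fin 2) (ZMod 7)) := hasMS_psl_two (by rw [ZMod.card]; norm_num)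
  exact hasMS_of_center_eq_bot (center_sl_three_eq_bot (by decide)) (h7.congr e)

theorem isMinimalSimple_psl_three_three :
    IsMinimalSimple (ProjectiveSpecialLinearGroup (Fin 3) (ZMod 3)) := by
  have hc3 : Fintype.card (ZMod 3) = 3 := ZMod.card 3
  have hcard := SmallSimple.PSLFacts.card_psl_three_three hc3
  have hfin : Finite (ProjectiveSpecialLinearGroup (Fin 3) (ZMod 3)) :=
    Nat.finite_of_card_ne_zero (by rw [hcard]; norm_num)
  have hs := S0249.result (F := ZMod 3) 3 le_rfl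
  refine ⟨hs, ?_, ?_⟩
  · intro hcomm
    have hsol : Group.IsSolvable (ProjectiveSpecialLinearGroup (Fin 3) (ZMod 3)) :=
      Group.isSolvable_of_comm fun a b => hcomm.is_comm.comm a b
    have hp := (IsSimpleGroup.comm_iff_isSolvable (G := ProjectiveSpecialLinearGroup (Fin 3) (ZMod 3))).2 hsol
    have : IsCyclic (ProjectiveSpecialLinearGroup (Fin 3) (ZMod 3)) := by
      let _ : CommGroup (ProjectiveSpecialLinearGroup (Fin 3) (ZMod 3)) := { (inferInstance : Group _) with mul_comm := hp }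
      infer_instance
    have hpr : (Nat.card (ProjectiveSpecialLinearGroup (Fin 3) (ZMod 3))).Prime := by
      let _ : CommGroup (ProjectiveSpecialLinearGroup (Fin 3) (ZMod 3)) := { (inferInstance : Group _) with mul_comm := hp }
      exact IsSimpleGroup.prime_card
    rw [hcard] at hpr
    exact absurd hpr (by norm_num)
  · intro H hH
    by_contra hns
    obtain ⟨K, N, hN, hQ⟩ := Classification.ThreePrimes.exists_section (G := ↥H) hns
    have hQs := hQ.1
    have hdvd1 : Nat.card (↥K ⧸ N) ∣ Nat.card ↥H :=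
      (N.card_quotient_dvd_card).trans K.card_subgroup_dvd_card
    have hdvdH := H.card_subgroup_dvd_card
    rw [hcard] at hdvdH
    have hlt : Nat.card ↥H < 5616 := by
      rw [← hcard]
      exact lt_of_le_of_ne (Nat.le_of_dvd Nat.card_pos H.card_subgroup_dvd_card)
        fun h => hH (H.eq_top_of_card_eq h)
    have hdvd : Nat.card (↥K ⧸ N) ∣ 13 * (3 ^ 3 * 2 ^ 4) := hdvd1.trans hdvdH
    have hle : Nat.card (↥K ⧸ N) < 5616 := lt_of_le_of_lt (Nat.le_of_dvd Nat.card_pos hdvd1) hlt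
    have hform : ∃ p a b : ℕ, p.Prime ∧ Nat.card (↥K ⧸ N) = p * 3 ^ a * 2 ^ b := by
      obtain ⟨u, v, hu, hv, huv⟩ := (Nat.dvd_mul).1 hdvd
      obtain ⟨v1, v2, hv1, hv2, hv12⟩ := (Nat.dvd_mul).1 hv
      obtain ⟨a, ha, rfl⟩ := (Nat.dvd_prime_pow Nat.prime_three).1 hv1
      obtain ⟨b, hb, rfl⟩ := (Nat.dvd_prime_pow Nat.prime_two).1 hv2
      rcases (Nat.dvd_prime (by norm_num : Nat.Prime 13)).1 hu with rfl | rfl
      · rcases Nat.eq_zero_or_pos a with rfl | ha0
        · rcases Nat.eq_zero_or_pos b with rfl | hb0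
          · exfalso
            have h1 : Nat.card (↥K ⧸ N) = 1 := by rw [← huv, ← hv12]; norm_num
            have := hQs.toNontrivial
            exact absurd h1 (Finite.one_lt_card).ne'
          · obtain ⟨c, rfl⟩ : ∃ c, b = c + 1 := ⟨b - 1, by omega⟩
            exact ⟨2, 0, c, Nat.prime_two, by rw [← huv, ← hv12]; ring⟩
        · obtain ⟨c, rfl⟩ : ∃ c, a = c + 1 := ⟨a - 1, by omega⟩
          exact ⟨3, c, b, Nat.prime_three, by rw [← huv, ← hv12]; ring⟩
      · exact ⟨13, a, b, by norm_num, by rw [← huv, ← hv12]; ring⟩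
    obtain ⟨p, a, b, hp, hpab⟩ := hform
    have key := S1000.result (G := ↥K ⧸ N) hQ.2.1 p a b hp hpab
    have hd5616 : Nat.card (↥K ⧸ N) ∣ 5616 := hdvd
    rcases key with ⟨⟨e⟩⟩ | ⟨⟨e⟩⟩ | ⟨F, _, _, hF, ⟨e⟩⟩ | ⟨F, _, _, hF, ⟨e⟩⟩ | ⟨F, _, _, hF, ⟨e⟩⟩ | ⟨F, _, _, hF, ⟨e⟩⟩
    · rw [Nat.card_congr e.toEquiv, SmallSimple.PSLFacts.card_alt_five] at hd5616
      exact absurd hd5616 (by norm_num)
    · rw [Nat.card_congr e.toEquiv, SmallSimple.PSLFacts.card_alt_six] at hd5616
      exact absurd hd5616 (by norm_num)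
    · rw [Nat.card_congr e.toEquiv, SmallSimple.PSLFacts.card_psp_two_three hF] at hd5616
      exact absurd hd5616 (by norm_num)
    · rcases hF with hF | hF | hF
      · rw [Nat.card_congr e.toEquiv, SmallSimple.PSLFacts.card_psl_two_seven hF] at hd5616
        exact absurd hd5616 (by norm_num)
      · rw [Nat.card_congr e.toEquiv, SmallSimple.PSLFacts.card_psl_two_eight hF] at hd5616
        exact absurd hd5616 (by norm_num)
      · rw [Nat.card_congr e.toEquiv, SmallSimple.PSLFacts.card_psl_two_seventeen hF] at hd5616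
        exact absurd hd5616 (by norm_num)
    · rw [Nat.card_congr e.toEquiv, SmallSimple.PSLFacts.card_psu_three_three hF] at hd5616
      exact absurd hd5616 (by norm_num)
    · rw [Nat.card_congr e.toEquiv, SmallSimple.PSLFacts.card_psl_three_three hF] at hle
      exact absurd hle (lt_irrefl _)

theorem hasMS_sl_three_three : HasMS (Matrix.SpecialLinearGroup (Fin 3) (ZMod 3)) :=
  hasMS_of_center_eq_bot (center_sl_three_eq_bot (by decide))
    (IsMinimalSimple.hasMS isMinimalSimple_psl_three_three)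

theorem hasMS_sl_three (F : Type*) [Field F] [Finite F] : HasMS (Matrix.SpecialLinearGroup (Fin 3) F) := by
  have := Fintype.ofFinite F
  obtain ⟨p, hchar⟩ := CharP.exists F
  have hp : Fact p.Prime := ⟨CharP.char_is_prime F p⟩
  apply hasMS_sl_three_map (ZMod.castHom (dvd_refl p) F)
  by_cases hp2 : p = 2
  · subst hp2; exact hasMS_sl_three_two
  by_cases hp3 : p = 3
  · subst hp3; exact hasMS_sl_three_three
  have h5p : 4 ≤ p := by
    have := hp.out.two_le
    omega
  have h2 : (2 : ZMod p) ≠ 0 := by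
    intro h
    have : (p : ℕ) ∣ 2 := (ZMod.natCast_eq_zero_iff 2 p).1 (by exact_mod_cast h)
    exact hp2 ((Nat.prime_dvd_prime_iff_eq hp.out Nat.prime_two).1 this)
  obtain ⟨a, b, hab⟩ := exists_sq_add_sq (ZMod p)
  exact hasMS_of_so (by rw [ZMod.card]; exact h5p) h2 hab (so h2 hab) fun A => Iff.rfl

end Cfsg.Agent.H46.MS
end

-- part: H46/MSClass
section
/-!
# Minimal simple subgroups of the classical groups (helper46)
-/

set_option autoImplicit false

namespace Cfsg.Agent.H46.MS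

open Matrix Subgroup Cfsg

/-! ### Linear groups of degree at least three -/

/-- block embedding -/
def slBlk {F : Type*} [Field F] {ι κ : Type*} [Fintype ι] [DecidableEq ι] [Fintype κ] [DecidableEq κ] :
    Matrix.SpecialLinearGroup ι F →* Matrix.SpecialLinearGroup (ι ⊕ κ) F where
  toFun A := ⟨Matrix.fromBlocks A.1 0 0 1, by
    rw [Matrix.det_fromBlocks_zero₂₁, A.2, Matrix.det_one, mul_one]⟩
  map_one' := Subtype.ext (by
    change Matrix.fromBlocks (1 : Matrix ι ι F) 0 0 1 = 1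
    exact Matrix.fromBlocks_one)
  map_mul' A B := Subtype.ext (by
    change Matrix.fromBlocks (A.1 * B.1) 0 0 1 = Matrix.fromBlocks A.1 0 0 1 * Matrix.fromBlocks B.1 0 0 1
    rw [Matrix.fromBlocks_multiply]
    simp only [_root_.Matrix.mul_zero, _root_.add_zero, _root_.Matrix.mul_one, _root_.Matrix.zero_mul, _root_.mul_one, _root_.zero_add])

theorem slBlk_injective {F : Type*} [Field F] {ι κ : Type*} [Fintype ι] [DecidableEq ι] [Fintype κ]
    [DecidableEq κ] : Function.Injective (slBlk (F := F) (ι := ι) (κ := κ)) := fun A B h => by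
  apply Subtype.ext
  have h1 : Matrix.fromBlocks A.1 0 0 (1 : Matrix κ κ F) = Matrix.fromBlocks B.1 0 0 1 := congrArg Subtype.val h
  exact (Matrix.fromBlocks_inj.1 h1).1

/-- change of the index type -/
def slRe {F : Type*} [Field F] {ι κ : Type*} [Fintype ι] [DecidableEq ι] [Fintype κ] [DecidableEq κ]
    (e : ι ≃ κ) : Matrix.SpecialLinearGroup ι F →* Matrix.SpecialLinearGroup κ F where
  toFun A := ⟨Matrix.reindex e e A.1, by rw [Matrix.det_reindex_self, A.2]⟩
  map_one' := Subtype.ext (by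
    change Matrix.reindex e e (1 : Matrix ι ι F) = 1
    simp)
  map_mul' A B := Subtype.ext (by
    change Matrix.reindex e e (A.1 * B.1) = Matrix.reindex e e A.1 * Matrix.reindex e e B.1
    simp [Matrix.reindex_apply, Matrix.submatrix_mul_equiv])

theorem slRe_injective {F : Type*} [Field F] {ι κ : Type*} [Fintype ι] [DecidableEq ι] [Fintype κ]
    [DecidableEq κ] (e : ι ≃ κ) : Function.Injective (slRe (F := F) e) := fun A B h => by
  apply Subtype.ext
  exact (Matrix.reindex e e).injective (congrArg Subtype.val h)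

theorem hasMS_sl (F : Type*) [Field F] [Finite F] {n : ℕ} (hn : 3 ≤ n) :
    HasMS (Matrix.SpecialLinearGroup (Fin n) F) := by
  obtain ⟨k, rfl⟩ := Nat.exists_eq_add_of_le hn
  exact (hasMS_sl_three F).of_injective
    ((slRe (finSumFinEquiv (m := 3) (n := k))).comp slBlk)
    ((slRe_injective _).comp slBlk_injective)

theorem hasMS_of_psl {G : Type*} [Group G] (h : IsPSL G) : HasMS G := by
  obtain ⟨F, _, _, n, hn, h4, ⟨e⟩⟩ := h
  refine HasMS.congr e.symm ?_
  rcases hn.eq_or_lt with rfl | hn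
  · exact hasMS_psl_two (h4 rfl)
  · exact (hasMS_sl F hn).quot_center

/-! ### Symplectic groups -/

/-- `diag(A, A⁻ᵀ)` -/
def dblMat {F : Type*} [Field F] {ι : Type*} [Fintype ι] [DecidableEq ι] (A : Matrix.SpecialLinearGroup ι F) :
    Matrix (ι ⊕ ι) (ι ⊕ ι) F :=
  Matrix.fromBlocks A.1 0 0 (A⁻¹).1ᵀ

theorem dblMat_mul {F : Type*} [Field F] {ι : Type*} [Fintype ι] [DecidableEq ι]
    (A B : Matrix.SpecialLinearGroup ι F) : dblMat (A * B) = dblMat A * dblMat B := by
  unfold dblMat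
  rw [Matrix.fromBlocks_multiply, _root_.mul_inv_rev]
  simp only [Matrix.SpecialLinearGroup.coe_mul, Matrix.transpose_mul, _root_.Matrix.SpecialLinearGroup.coe_inv, _root_.MulZeroClass.mul_zero, _root_.add_zero, _root_.MulZeroClass.zero_mul, _root_.zero_add]

theorem dblMat_one {F : Type*} [Field F] {ι : Type*} [Fintype ι] [DecidableEq ι] :
    dblMat (1 : Matrix.SpecialLinearGroup ι F) = 1 := by
  unfold dblMat
  rw [inv_one, Matrix.SpecialLinearGroup.coe_one, Matrix.transpose_one]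
  exact Matrix.fromBlocks_one

theorem dblMat_inj {F : Type*} [Field F] {ι : Type*} [Fintype ι] [DecidableEq ι]
    {A B : Matrix.SpecialLinearGroup ι F} (h : dblMat A = dblMat B) : A = B :=
  Subtype.ext (Matrix.fromBlocks_inj.1 h).1

theorem mul_inv_val {F : Type*} [Field F] {ι : Type*} [Fintype ι] [DecidableEq ι]
    (A : Matrix.SpecialLinearGroup ι F) : A.1 * (A⁻¹).1 = 1 := by
  have : (A * A⁻¹).1 = (1 : Matrix.SpecialLinearGroup ι F).1 := by rw [mul_inv_cancel]
  exact this

theorem inv_mul_val {F : Type*} [Field F] {ι : Type*} [Fintype ι] [DecidableEq ι]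
    (A : Matrix.SpecialLinearGroup ι F) : (A⁻¹).1 * A.1 = 1 := by
  have : (A⁻¹ * A).1 = (1 : Matrix.SpecialLinearGroup ι F).1 := by rw [inv_mul_cancel]
  exact this

/-- `SL_m → Sp_{2m}` -/
def slSp {F : Type*} [Field F] {ι : Type*} [Fintype ι] [DecidableEq ι] :
    Matrix.SpecialLinearGroup ι F →* Matrix.symplecticGroup ι F where
  toFun A := ⟨dblMat A, by
    rw [SymplecticGroup.mem_iff]
    unfold dblMat Matrix.J
    rw [Matrix.fromBlocks_multiply, Matrix.fromBlocks_transpose, Matrix.fromBlocks_multiply]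
    have h1 : (A⁻¹).1ᵀ * A.1ᵀ = 1 := by rw [← Matrix.transpose_mul, mul_inv_val, Matrix.transpose_one]
    have h2 := mul_inv_val A
    simp [-Matrix.SpecialLinearGroup.coe_inv, h1, h2]⟩
  map_one' := Subtype.ext dblMat_one
  map_mul' A B := Subtype.ext (dblMat_mul A B)

theorem slSp_injective {F : Type*} [Field F] {ι : Type*} [Fintype ι] [DecidableEq ι] :
    Function.Injective (slSp (F := F) (ι := ι)) := fun _ _ h => dblMat_inj (congrArg Subtype.val h)

theorem hasMS_psp_three {F : Type*} [Field F] [Finite F] {m : ℕ} (hm : 3 ≤ m) : HasMS (PSp m F) :=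
  ((hasMS_sl F hm).of_injective slSp slSp_injective).quot_center

/-- `SL₂ → Sp_{2m}`, the scalars blown up -/
def slTwoSp {F : Type*} [Field F] {ι : Type*} [Fintype ι] [DecidableEq ι] :
    Matrix.SpecialLinearGroup (Fin 2) F →* Matrix.symplecticGroup ι F where
  toFun A := ⟨Matrix.fromBlocks (A.1 0 0 • 1) (A.1 0 1 • 1) (A.1 1 0 • 1) (A.1 1 1 • 1), by
    rw [SymplecticGroup.mem_iff]
    unfold Matrix.J
    rw [Matrix.fromBlocks_multiply, Matrix.fromBlocks_transpose, Matrix.fromBlocks_multiply]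
    have hd : A.1 0 0 * A.1 1 1 - A.1 0 1 * A.1 1 0 = 1 := by rw [← Matrix.det_fin_two]; exact A.2
    congr 1 <;> ext i j <;> by_cases hij : i = j <;>
      simp [Matrix.smul_apply, Matrix.one_apply, hij] <;>
      first
        | ring1
        | linear_combination hd
        | linear_combination (-1 : F) * hd⟩
  map_one' := Subtype.ext (by
    change Matrix.fromBlocks ((1 : Matrix (Fin 2) (Fin 2) F) 0 0 • (1 : Matrix ι ι F))
      ((1 : Matrix (Fin 2) (Fin 2) F) 0 1 • 1) ((1 : Matrix (Fin 2) (Fin 2) F) 1 0 • 1)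
      ((1 : Matrix (Fin 2) (Fin 2) F) 1 1 • 1) = 1
    simp only [← Matrix.fromBlocks_one, _root_.Matrix.one_apply_eq, _root_.one_smul, _root_.Fin.isValue, _root_.ne_eq, _root_.zero_ne_one, _root_.not_false_eq_true, _root_.Matrix.one_apply_ne, _root_.zero_smul, _root_.one_ne_zero])
  map_mul' A B := Subtype.ext (by
    change Matrix.fromBlocks ((A.1 * B.1) 0 0 • (1 : Matrix ι ι F)) ((A.1 * B.1) 0 1 • 1)
      ((A.1 * B.1) 1 0 • 1) ((A.1 * B.1) 1 1 • 1) =
      Matrix.fromBlocks (A.1 0 0 • 1) (A.1 0 1 • 1) (A.1 1 0 • 1) (A.1 1 1 • 1) *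
      Matrix.fromBlocks (B.1 0 0 • 1) (B.1 0 1 • 1) (B.1 1 0 • 1) (B.1 1 1 • 1)
    rw [Matrix.fromBlocks_multiply]
    congr 1 <;> simp only [Matrix.mul_apply, Fin.sum_univ_two, add_smul, smul_smul, mul_comm, _root_.Fin.isValue, _root_.Algebra.mul_smul_comm, _root_.mul_one])

theorem hasMS_psp {F : Type*} [Field F] [Fintype F] {m : ℕ} (hm : 1 ≤ m) (hF : 4 ≤ Fintype.card F) :
    HasMS (PSp m F) := by
  have i0 : Fin m := ⟨0, by omega⟩
  refine hasMS_of_sl_two hF ((QuotientGroup.mk' _).comp (slTwoSp (ι := Fin m))) (fun x hx => ?_) ⟨up F, fun h => ?_⟩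
  · obtain ⟨r, hr, hx⟩ := Matrix.SpecialLinearGroup.mem_center_iff.1 hx
    rw [MonoidHom.comp_apply, QuotientGroup.mk'_apply, QuotientGroup.eq_one_iff, mem_center_iff]
    intro g
    apply Subtype.ext
    change g.1 * Matrix.fromBlocks (x.1 0 0 • 1) (x.1 0 1 • 1) (x.1 1 0 • 1) (x.1 1 1 • 1) =
      Matrix.fromBlocks (x.1 0 0 • 1) (x.1 0 1 • 1) (x.1 1 0 • 1) (x.1 1 1 • 1) * g.1
    have h1 : Matrix.fromBlocks (x.1 0 0 • 1) (x.1 0 1 • 1) (x.1 1 0 • 1) (x.1 1 1 • 1) =
        r • (1 : Matrix (Fin m ⊕ Fin m) (Fin m ⊕ Fin m) F) := by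
      rw [← hx, ← Matrix.fromBlocks_one, Matrix.fromBlocks_smul]
      simp only [Matrix.scalar_apply, _root_.Fin.isValue, _root_.Matrix.diagonal_apply_eq, _root_.ne_eq, _root_.zero_ne_one, _root_.not_false_eq_true, _root_.Matrix.diagonal_apply_ne, _root_.zero_smul, _root_.one_ne_zero, _root_.smul_zero]
    rw [h1, Matrix.mul_smul, Matrix.smul_mul, Matrix.mul_one, Matrix.one_mul]
  · rw [MonoidHom.comp_apply, QuotientGroup.mk'_apply, QuotientGroup.eq_one_iff, mem_center_iff] at h
    have h1 := congrArg Subtype.val (h (SymplecticGroup.symJ (Fin m) F))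
    change Matrix.J (Fin m) F * Matrix.fromBlocks ((1 : F) • 1) ((1 : F) • 1) ((0 : F) • 1) ((1 : F) • 1) =
      Matrix.fromBlocks ((1 : F) • 1) ((1 : F) • 1) ((0 : F) • 1) ((1 : F) • 1) * Matrix.J (Fin m) F at h1
    unfold Matrix.J at h1
    rw [Matrix.fromBlocks_multiply, Matrix.fromBlocks_multiply] at h1
    have h2 := (Matrix.fromBlocks_inj.1 h1).1
    have h3 := congrFun (congrFun h2 i0) i0
    simp at h3

/-! ### Orthogonal groups -/

/-- a representation of `SL_m` preserving a quadratic form -/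
theorem hasMS_omega {F : Type*} [Field F] [Finite F] {m : ℕ} (hm : 3 ≤ m) {ι : Type} [Fintype ι] [DecidableEq ι]
    (Q : (ι → F) → F) (f : Matrix.SpecialLinearGroup (Fin m) F →* Matrix ι ι F)
    (hf : Function.Injective f) (hQ : ∀ A v, Q (f A *ᵥ v) = Q v) : HasMS (POmega F Q) := by
  let g : Matrix.SpecialLinearGroup (Fin m) F →* isometryGroup F Q :=
    { toFun := fun A => ⟨f.toHomUnits A, fun v _ => hQ A v⟩
      map_one' := Subtype.ext (map_one _)
      map_mul' := fun A B => Subtype.ext (map_mul _ _ _) }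
  have hg : Function.Injective g := by
    intro A B hAB
    apply hf
    exact congrArg (fun x : isometryGroup F Q => ((x : GL ι F) : Matrix ι ι F)) hAB
  exact (HasMS.commutator ((hasMS_sl F hm).of_injective g hg)).quot_center

/-- `diag(A, A⁻ᵀ)` as a homomorphism to matrices -/
def dbl {F : Type*} [Field F] {ι : Type*} [Fintype ι] [DecidableEq ι] :
    Matrix.SpecialLinearGroup ι F →* Matrix (ι ⊕ ι) (ι ⊕ ι) F where
  toFun := dblMat
  map_one' := dblMat_one
  map_mul' := dblMat_mul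

theorem dot_aux {F : Type*} [Field F] {ι : Type*} [Fintype ι] [DecidableEq ι] (A B : Matrix ι ι F) (h : B * A = 1)
    (x y : ι → F) : (A *ᵥ x) ⬝ᵥ (Bᵀ *ᵥ y) = x ⬝ᵥ y := by
  rw [Matrix.mulVec_transpose, dotProduct_comm, ← Matrix.dotProduct_mulVec, Matrix.mulVec_mulVec, h,
    Matrix.one_mulVec, dotProduct_comm]

theorem dbl_form {F : Type*} [Field F] {m : ℕ} (A : Matrix.SpecialLinearGroup (Fin m) F)
    (v : Fin m ⊕ Fin m → F) :
    ∑ i : Fin m, (dblMat A *ᵥ v) (.inl i) * (dblMat A *ᵥ v) (.inr i) = ∑ i : Fin m, v (.inl i) * v (.inr i) := by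
  have h1 : ∀ i, (dblMat A *ᵥ v) (.inl i) = (A.1 *ᵥ fun j => v (.inl j)) i := by
    intro i
    simp only [dblMat, Matrix.mulVec, dotProduct, Fintype.sum_sum_type, _root_.Matrix.SpecialLinearGroup.coe_inv, _root_.Matrix.fromBlocks_apply₁₁, _root_.Matrix.fromBlocks_apply₁₂, _root_.Matrix.zero_apply, _root_.MulZeroClass.zero_mul, _root_.Finset.sum_const_zero, _root_.add_zero]
  have h2 : ∀ i, (dblMat A *ᵥ v) (.inr i) = ((A⁻¹).1ᵀ *ᵥ fun j => v (.inr j)) i := by
    intro i
    simp only [dblMat, Matrix.mulVec, dotProduct, Fintype.sum_sum_type, _root_.Matrix.SpecialLinearGroup.coe_inv, _root_.Matrix.fromBlocks_apply₂₁, _root_.Matrix.zero_apply, _root_.MulZeroClass.zero_mul, _root_.Finset.sum_const_zero, _root_.Matrix.fromBlocks_apply₂₂, _root_.Matrix.transpose_apply, _root_.zero_add]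
  simp only [h1, h2]
  change (A.1 *ᵥ fun j => v (.inl j)) ⬝ᵥ ((A⁻¹).1ᵀ *ᵥ fun j => v (.inr j)) =
    (fun j => v (.inl j)) ⬝ᵥ fun j => v (.inr j)
  exact dot_aux A.1 (A⁻¹).1 (inv_mul_val A) _ _

/-- adding a trivial block on the left -/
def addL {F : Type*} [Field F] {ι κ : Type*} [Fintype ι] [DecidableEq ι] [Fintype κ] [DecidableEq κ] :
    Matrix ι ι F →* Matrix (κ ⊕ ι) (κ ⊕ ι) F where
  toFun A := Matrix.fromBlocks 1 0 0 A
  map_one' := Matrix.fromBlocks_one
  map_mul' A B := by rw [Matrix.fromBlocks_multiply]; simp only [_root_.mul_one, _root_.Matrix.mul_zero, _root_.add_zero, _root_.Matrix.zero_mul, _root_.Matrix.mul_one, _root_.zero_add]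

/-- adding a trivial block on the right -/
def addR {F : Type*} [Field F] {ι κ : Type*} [Fintype ι] [DecidableEq ι] [Fintype κ] [DecidableEq κ] :
    Matrix ι ι F →* Matrix (ι ⊕ κ) (ι ⊕ κ) F where
  toFun A := Matrix.fromBlocks A 0 0 1
  map_one' := Matrix.fromBlocks_one
  map_mul' A B := by rw [Matrix.fromBlocks_multiply]; simp only [_root_.Matrix.mul_zero, _root_.add_zero, _root_.Matrix.mul_one, _root_.Matrix.zero_mul, _root_.mul_one, _root_.zero_add]

theorem hasMS_of_pOmegaPlus {G : Type*} [Group G] (h : IsPOmegaPlus G) : HasMS G := by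
  obtain ⟨F, _, _, m, hm, ⟨e⟩⟩ := h
  refine HasMS.congr e.symm (hasMS_omega (m := m) (by omega) _ dbl (fun A B h => dblMat_inj h) fun A v => ?_)
  exact dbl_form A v

theorem hasMS_of_pOmegaOdd {G : Type*} [Group G] (h : IsPOmegaOdd G) : HasMS G := by
  obtain ⟨F, _, _, m, hm, -, ⟨e⟩⟩ := h
  refine HasMS.congr e.symm (hasMS_omega (m := m) (by omega) _ (addL.comp dbl) (fun A B h => ?_) fun A v => ?_)
  · have h' : Matrix.fromBlocks 1 0 0 (dblMat A) = Matrix.fromBlocks 1 0 0 (dblMat B) := h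
    exact dblMat_inj (Matrix.fromBlocks_inj.1 h').2.2.2
  · have h0 : ((Matrix.fromBlocks (1 : Matrix Unit Unit F) 0 0 (dblMat A)) *ᵥ v) (.inl ()) = v (.inl ()) := by
      simp only [Matrix.mulVec, dotProduct, Fintype.sum_sum_type, _root_.Finset.univ_unique, _root_.PUnit.default_eq_unit, _root_.Matrix.fromBlocks_apply₁₁, _root_.Matrix.one_apply_eq, _root_.one_mul, _root_.Finset.sum_singleton, _root_.Matrix.fromBlocks_apply₁₂, _root_.Matrix.zero_apply, _root_.MulZeroClass.zero_mul, _root_.Finset.sum_const_zero, _root_.add_zero]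
    have h1 : ∀ i, ((Matrix.fromBlocks (1 : Matrix Unit Unit F) 0 0 (dblMat A)) *ᵥ v) (.inr i) =
        (dblMat A *ᵥ fun j => v (.inr j)) i := by
      intro i
      simp only [Matrix.mulVec, dotProduct, Fintype.sum_sum_type, _root_.Finset.univ_unique, _root_.PUnit.default_eq_unit, _root_.Matrix.fromBlocks_apply₂₁, _root_.Matrix.zero_apply, _root_.MulZeroClass.zero_mul, _root_.Finset.sum_const_zero, _root_.Matrix.fromBlocks_apply₂₂, _root_.zero_add]
    change quadFormOdd m F ((Matrix.fromBlocks (1 : Matrix Unit Unit F) 0 0 (dblMat A)) *ᵥ v) = _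
    unfold quadFormOdd
    simp only [h0, h1]
    rw [dbl_form]

theorem hasMS_of_pOmegaMinus {G : Type*} [Group G] (h : IsPOmegaMinus G) : HasMS G := by
  obtain ⟨F, _, _, m, a, b, hm, -, ⟨e⟩⟩ := h
  refine HasMS.congr e.symm (hasMS_omega (m := m - 1) (by omega) _ (addR.comp dbl) (fun A B h => ?_) fun A v => ?_)
  · have h' : Matrix.fromBlocks (dblMat A) 0 0 1 = Matrix.fromBlocks (dblMat B) 0 0 1 := h
    exact dblMat_inj (Matrix.fromBlocks_inj.1 h').1
  · have h0 : ∀ k : Fin 2, ((Matrix.fromBlocks (dblMat A) 0 0 (1 : Matrix (Fin 2) (Fin 2) F)) *ᵥ v) (.inr k) =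
        v (.inr k) := by
      intro k
      simp only [Matrix.mulVec, dotProduct, Fintype.sum_sum_type, Matrix.one_apply, _root_.Matrix.fromBlocks_apply₂₁, _root_.Matrix.zero_apply, _root_.MulZeroClass.zero_mul, _root_.Finset.sum_const_zero, _root_.Matrix.fromBlocks_apply₂₂, _root_.ite_mul, _root_.one_mul, _root_.Finset.sum_ite_eq, _root_.Finset.mem_univ, ↓ _root_.reduceIte, _root_.zero_add]
    have h1 : ∀ i, ((Matrix.fromBlocks (dblMat A) 0 0 (1 : Matrix (Fin 2) (Fin 2) F)) *ᵥ v) (.inl i) =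
        (dblMat A *ᵥ fun j => v (.inl j)) i := by
      intro i
      simp only [Matrix.mulVec, dotProduct, Fintype.sum_sum_type, _root_.Matrix.fromBlocks_apply₁₁, _root_.Matrix.fromBlocks_apply₁₂, _root_.Matrix.zero_apply, _root_.MulZeroClass.zero_mul, _root_.Finset.sum_const_zero, _root_.add_zero]
    change quadFormMinus (m - 1) F a b ((Matrix.fromBlocks (dblMat A) 0 0 (1 : Matrix (Fin 2) (Fin 2) F)) *ᵥ v) = _
    unfold quadFormMinus
    simp only [h0, h1]
    rw [dbl_form]

end Cfsg.Agent.H46.MS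
end

-- part: H46/MSUni
section
/-!
# Minimal simple subgroups of `PSp₄(3)` and of the unitary groups (helper46)
-/

set_option autoImplicit false

namespace Cfsg.Agent.H46.MS

open Matrix Subgroup Cfsg

/-! ### `PSp₄(3)` -/

/-- a matrix from a function of numbers -/
def spM (f : Fin 4 → Fin 4 → ZMod 3) : Matrix (Fin 2 ⊕ Fin 2) (Fin 2 ⊕ Fin 2) (ZMod 3) :=
  fun i j => f (finSumFinEquiv i) (finSumFinEquiv j)

def spX : Matrix (Fin 2 ⊕ Fin 2) (Fin 2 ⊕ Fin 2) (ZMod 3) :=
  spM !![2, 0, 1, 0; 0, 2, 0, 2; 2, 0, 0, 0; 0, 1, 0, 0]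
def spY : Matrix (Fin 2 ⊕ Fin 2) (Fin 2 ⊕ Fin 2) (ZMod 3) :=
  spM !![0, 0, 0, 1; 0, 0, 1, 0; 0, 2, 2, 0; 2, 0, 0, 2]
def spZ : Matrix (Fin 2 ⊕ Fin 2) (Fin 2 ⊕ Fin 2) (ZMod 3) :=
  spM !![0, 0, 0, 2; 0, 0, 2, 0; 0, 1, 2, 0; 1, 0, 0, 2]

theorem spX_mem : spX ∈ Matrix.symplecticGroup (Fin 2) (ZMod 3) := by
  rw [SymplecticGroup.mem_iff]; decide +kernel
theorem spY_mem : spY ∈ Matrix.symplecticGroup (Fin 2) (ZMod 3) := by
  rw [SymplecticGroup.mem_iff]; decide +kernel
theorem spZ_mem : spZ ∈ Matrix.symplecticGroup (Fin 2) (ZMod 3) := by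
  rw [SymplecticGroup.mem_iff]; decide +kernel

theorem neg_one_central {x : Matrix.symplecticGroup (Fin 2) (ZMod 3)} (h : x.1 = -1) :
    (QuotientGroup.mk x : PSp 2 (ZMod 3)) = 1 := by
  rw [QuotientGroup.eq_one_iff, mem_center_iff]
  intro g
  apply Subtype.ext
  change g.1 * x.1 = x.1 * g.1
  rw [h]
  simp

theorem psp_rel {x y : Matrix.symplecticGroup (Fin 2) (ZMod 3)}
    (h : (x.1 * y.1) * (x.1 * y.1) = -1) :
    ((QuotientGroup.mk x : PSp 2 (ZMod 3)) * QuotientGroup.mk y) ^ 2 = 1 := by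
  rw [← QuotientGroup.mk_mul, ← QuotientGroup.mk_pow]
  apply neg_one_central
  rw [sq]
  exact h

theorem psp_cube {x : Matrix.symplecticGroup (Fin 2) (ZMod 3)}
    (h : x.1 * x.1 * x.1 = 1) :
    (QuotientGroup.mk x : PSp 2 (ZMod 3)) ^ 3 = 1 := by
  rw [← QuotientGroup.mk_pow]
  have : x ^ 3 = 1 := by
    apply Subtype.ext
    rw [pow_succ, sq]
    exact h
  rw [this]
  rfl

theorem hasMS_psp_two_three : HasMS (PSp 2 (ZMod 3)) := by
  refine hasMS_of_triple (QuotientGroup.mk ⟨spX, spX_mem⟩ : PSp 2 (ZMod 3)) (QuotientGroup.mk ⟨spY, spY_mem⟩)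
    (QuotientGroup.mk ⟨spZ, spZ_mem⟩) (psp_cube (by decide +kernel)) (psp_cube (by decide +kernel))
    (psp_cube (by decide +kernel)) (psp_rel (by decide +kernel)) (psp_rel (by decide +kernel))
    (psp_rel (by decide +kernel)) ?_
  intro h
  rw [QuotientGroup.eq_one_iff, mem_center_iff] at h
  have h1 := congrArg Subtype.val (h ⟨spY, spY_mem⟩)
  have h2 : spY * spX ≠ spX * spY := by decide +kernel
  exact h2 h1

theorem hasMS_of_psp {G : Type*} [Group G] (h : IsPSp G) : HasMS G := by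
  obtain ⟨F, _, _, m, hm, h3, ⟨e⟩⟩ := h
  refine HasMS.congr e.symm ?_
  rcases hm.eq_or_lt with rfl | hm3
  · rcases (h3 rfl).eq_or_lt with h3' | h4
    · obtain ⟨σ⟩ : Nonempty (ZMod 3 ≃+* F) :=
        ⟨FiniteField.ringEquivOfCardEq (by rw [ZMod.card]; exact h3')⟩
      exact hasMS_psp_two_three.congr (LieClassical.FieldTransfer.pspCongr 2 σ)
    · exact hasMS_psp (by norm_num) h4
  · exact hasMS_psp_three hm3

/-! ### Unitary groups -/

open Cfsg.Agent.LieClassical.GUOrder in
/-- a matrix over the subfield with orthonormal columns -/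
theorem mem_su_of_orth {F : Type*} [Field F] [Fintype F] {q n : ℕ} (hF : Fintype.card F = q ^ 2)
    {A : Matrix.SpecialLinearGroup (Fin n) F} (hA : A.1ᵀ * A.1 = 1) (hfix : ∀ i j, (A.1 i j) ^ q = A.1 i j) :
    A ∈ SU n F q := by
  refine (mul_map_eq_one_iff hF A.1).2 ?_
  have h1 : A.1.map (frob hF) = A.1 := by
    ext i j
    rw [Matrix.map_apply, frob_apply, hfix]
  rw [h1, hA]

/-- permutation matrices -/
def altHom (F : Type*) [Field F] (n : ℕ) : alternatingGroup (Fin n) →* Matrix.SpecialLinearGroup (Fin n) F where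
  toFun σ := ⟨(σ⁻¹).1.permMatrix F, by
    rw [Matrix.det_permutation]
    have := (Equiv.Perm.mem_alternatingGroup).1 (σ⁻¹).2
    rw [this]
    simp⟩
  map_one' := Subtype.ext (by
    change ((1 : alternatingGroup (Fin n))⁻¹).1.permMatrix F = 1
    simp only [_root_.inv_one, _root_.OneMemClass.coe_one, _root_.Matrix.permMatrix_one])
  map_mul' σ τ := Subtype.ext (by
    change ((σ * τ)⁻¹).1.permMatrix F = (σ⁻¹).1.permMatrix F * (τ⁻¹).1.permMatrix F
    rw [_root_.mul_inv_rev, ← Matrix.permMatrix_mul]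
    rfl)

theorem hasMS_su_five {F : Type*} [Field F] [Fintype F] {q n : ℕ} (hF : Fintype.card F = q ^ 2) (hn : 5 ≤ n) :
    HasMS (SU n F q) := by
  have hmem : ∀ σ : alternatingGroup (Fin n), altHom F n σ ∈ SU n F q := by
    intro σ
    have hq : q ≠ 0 := by
      rintro rfl
      have := Fintype.card_pos (α := F)
      rw [hF] at this
      norm_num at this
    refine mem_su_of_orth hF ?_ ?_
    · change ((σ⁻¹).1.permMatrix F)ᵀ * (σ⁻¹).1.permMatrix F = 1
      rw [Matrix.transpose_permMatrix, ← Matrix.permMatrix_mul]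
      simp
    · intro i j
      change ((σ⁻¹).1.permMatrix F i j) ^ q = (σ⁻¹).1.permMatrix F i j
      rw [Equiv.Perm.permMatrix, PEquiv.toMatrix_apply]
      split_ifs
      · exact one_pow q
      · exact zero_pow hq
  obtain ⟨H, hH⟩ := hasMS_alt hn
  let f : alternatingGroup (Fin n) →* SU n F q :=
    { toFun := fun σ => ⟨altHom F n σ, hmem σ⟩
      map_one' := Subtype.ext (map_one _)
      map_mul' := fun a b => Subtype.ext (map_mul _ _ _) }
  refine HasMS.of_injective f (fun σ τ h => ?_) ⟨H, hH⟩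
  have h1 : (σ⁻¹).1.permMatrix F = (τ⁻¹).1.permMatrix F := congrArg (fun x : SU n F q => x.1.1) h
  have h2 : (σ⁻¹).1 = (τ⁻¹).1 := by
    apply Equiv.ext
    intro i
    have h3 := congrFun (congrFun h1 i) ((σ⁻¹).1 i)
    simp only [Equiv.Perm.permMatrix, PEquiv.toMatrix_apply, Equiv.toPEquiv_apply, Option.mem_def,
      Option.some.injEq] at h3
    by_contra hne
    rw [if_pos trivial, if_neg (Ne.symm hne)] at h3
    exact one_ne_zero h3
  exact inv_injective (Subtype.ext h2)

theorem hasMS_su_four_le {F : Type*} [Field F] [Fintype F] {q : ℕ} (hF : Fintype.card F = q ^ 2) (hq : 4 ≤ q) :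
    HasMS (SU 3 F q) := by
  obtain ⟨p, hchar⟩ := CharP.exists F
  have hp : Fact p.Prime := ⟨CharP.char_is_prime F p⟩
  obtain ⟨n, hpp, hn⟩ := FiniteField.card F p
  have hn' : p ^ (n : ℕ) = q ^ 2 := by rw [← hn, hF]
  obtain ⟨k, hk⟩ : ∃ k, q = p ^ k := by
    have : q ∣ p ^ (n : ℕ) := by rw [hn']; exact dvd_pow_self q two_ne_zero
    obtain ⟨k, -, hk⟩ := (Nat.dvd_prime_pow hpp).1 this
    exact ⟨k, hk⟩
  have hk0 : k ≠ 0 := by
    rintro rfl
    rw [pow_zero] at hk
    omega
  have : Fintype (GaloisField p k) := Fintype.ofFinite _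
  have hK : Fintype.card (GaloisField p k) = q := by
    have := GaloisField.card p k hk0
    rw [Nat.card_eq_fintype_card] at this
    rw [this, hk]
  obtain ⟨f⟩ := ClassicalGeometry.PSL2Basic.exists_ringHom_of_card_pow (K := GaloisField p k) (L := F) (m := 2)
    (by rw [hK, hF])
  by_cases hp2 : p = 2
  · subst hp2
    obtain ⟨e⟩ := S0281.result (F := F) (K := GaloisField 2 k) hF hK
    have h1 : HasMS (Matrix.SpecialLinearGroup (Fin 2) (GaloisField 2 k)) :=
      hasMS_sl_two_even (by rw [hK]; exact hq) (by exact_mod_cast CharP.cast_eq_zero (GaloisField 2 k) 2)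
    exact (h1.congr e.symm).of_injective _ (Phan.emb_injective hF 0 (by norm_num : 0 + 2 ≤ 3))
  · have h2 : (2 : GaloisField p k) ≠ 0 := by
      intro h
      have : (p : ℕ) ∣ 2 := (CharP.cast_eq_zero_iff (GaloisField p k) p 2).1 (by exact_mod_cast h)
      exact hp2 ((Nat.prime_dvd_prime_iff_eq hpp Nat.prime_two).1 this)
    obtain ⟨a, b, hab⟩ := exists_sq_add_sq (GaloisField p k)
    let g : Matrix.SpecialLinearGroup (Fin 2) (GaloisField p k) →* Matrix.SpecialLinearGroup (Fin 3) F :=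
      (Matrix.SpecialLinearGroup.map f).comp (so h2 hab)
    have hg : ∀ A, (g A).1 = (so h2 hab A).1.map f := fun A => rfl
    have hmem : ∀ A, g A ∈ SU 3 F q := by
      intro A
      refine mem_su_of_orth hF ?_ ?_
      · rw [hg, ← Matrix.transpose_map, ← Matrix.map_mul, so_transpose]
        ext i j
        by_cases hij : i = j <;> simp [Matrix.one_apply, hij]
      · intro i j
        rw [hg, Matrix.map_apply, ← map_pow, ← hK, FiniteField.pow_card]
    let g' : Matrix.SpecialLinearGroup (Fin 2) (GaloisField p k) →* SU 3 F q :=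
      { toFun := fun σ => ⟨g σ, hmem σ⟩
        map_one' := Subtype.ext (map_one _)
        map_mul' := fun a b => Subtype.ext (map_mul _ _ _) }
    refine hasMS_of_so (by rw [hK]; exact hq) h2 hab g' fun A => ?_
    constructor
    · intro h
      have h1 : (so h2 hab A).1.map f = 1 := congrArg (fun x : SU 3 F q => x.1.1) h
      apply Subtype.ext
      ext i j
      apply f.injective
      have h3 := congrFun (congrFun h1 i) j
      rw [Matrix.map_apply] at h3
      rw [h3]
      by_cases hij : i = j <;> simp only [Matrix.one_apply, hij, ↓ _root_.reduceIte, _root_.Matrix.SpecialLinearGroup.coe_one, _root_.Matrix.one_apply_eq, _root_.map_one, _root_.ne_eq, _root_.not_false_eq_true, _root_.Matrix.one_apply_ne, _root_.map_zero]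
    · intro h
      apply Subtype.ext
      change (Matrix.SpecialLinearGroup.map f) (so h2 hab A) = 1
      rw [h, map_one]

/-! ### `L₃(2)` from six involutions -/

/-- the six root involutions -/
structure Hex {G : Type*} [Group G] (r : Fin 6 → G) : Prop where
  sq : ∀ i, r i * r i = 1
  comm : ∀ i, r i * r (i + 1) = r (i + 1) * r i
  br : ∀ i, r i * r (i + 2) * r i * r (i + 2) = r (i + 1)

/-- the root `e_i - e_j` on the hexagon -/
def hexIdx (i j : Fin 3) : Fin 6 :=
  if i = 0 then (if j = 1 then 0 else 1) else if i = 1 then (if j = 2 then 2 else 3) else if j = 0 then 4 else 5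

theorem Hex.inv {G : Type*} [Group G] {r : Fin 6 → G} (h : Hex r) (i : Fin 6) : (r i)⁻¹ = r i :=
  inv_eq_of_mul_eq_one_left (h.sq i)

theorem Hex.br' {G : Type*} [Group G] {r : Fin 6 → G} (h : Hex r) (i : Fin 6) :
    r (i + 2) * r i * r (i + 2) * r i = r (i + 1) := by
  have h1 := congrArg (·⁻¹) (h.br i)
  simp only [_root_.mul_inv_rev, h.inv] at h1
  rw [← h1]
  simp only [mul_assoc]

/-- the root elements over the field of two elements -/
def hexX {G : Type*} [Group G] (r : Fin 6 → G) (i j : Fin 3) (a : ZMod 2) : G :=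
  if a = 0 then 1 else r (hexIdx i j)

theorem Hex.stein {G : Type*} [Group G] {r : Fin 6 → G} (h : Hex r) : AGraded.SteinRel (hexX r) := by
  have hidx : ∀ i j k l : Fin 3, (i ≠ j ∧ k ≠ l ∧ j ≠ k ∧ i ≠ l) →
      hexIdx i j = hexIdx k l ∨ hexIdx k l = hexIdx i j + 1 ∨ hexIdx i j = hexIdx k l + 1 := by decide
  have hbr : ∀ i j k : Fin 3, (i ≠ j ∧ j ≠ k ∧ i ≠ k) →
      (hexIdx j k = hexIdx i j + 2 ∧ hexIdx i k = hexIdx i j + 1) ∨
      (hexIdx i j = hexIdx j k + 2 ∧ hexIdx i k = hexIdx j k + 1) := by decide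
  have h2 : ∀ a : ZMod 2, a = 0 ∨ a = 1 := by decide
  refine ⟨?_, ?_, ?_⟩
  · intro i j _ a b
    rcases h2 a with rfl | rfl <;> rcases h2 b with rfl | rfl
    · simp [hexX]
    · simp only [hexX, _root_.zero_add, _root_.one_ne_zero, ↓ _root_.reduceIte, _root_.one_mul]
    · simp [hexX]
    · have : (1 : ZMod 2) + 1 = 0 := by decide
      simp [hexX, this, h.sq]
  · intro i j k l hij hkl hjk hil a b
    rcases h2 a with rfl | rfl <;> rcases h2 b with rfl | rfl
    · simp [hexX]
    · simp [hexX]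
    · simp [hexX]
    · simp only [hexX, one_ne_zero, if_false]
      rcases hidx i j k l ⟨hij, hkl, hjk, hil⟩ with e | e | e
      · rw [e]
      · rw [e]; exact h.comm _
      · rw [e]; exact (h.comm _).symm
  · intro i j k hij hjk hik a b
    rcases h2 a with rfl | rfl <;> rcases h2 b with rfl | rfl
    · simp [hexX, commutatorElement_def]
    · simp only [hexX, commutatorElement_def, ↓ _root_.reduceIte, _root_.one_ne_zero, _root_.one_mul, _root_.inv_one, _root_.mul_one, _root_.mul_inv_cancel]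
    · simp only [hexX, commutatorElement_def, _root_.one_ne_zero, ↓ _root_.reduceIte, _root_.mul_one, _root_.mul_inv_cancel, _root_.inv_one, _root_.MulZeroClass.mul_zero]
    · simp only [hexX, one_ne_zero, if_false, mul_one, commutatorElement_def, h.inv]
      rcases hbr i j k ⟨hij, hjk, hik⟩ with ⟨e1, e2⟩ | ⟨e1, e2⟩
      · rw [e1, e2]; exact h.br _
      · rw [e1, e2]; exact h.br' _

theorem hasMS_of_hex {G : Type*} [Group G] {r : Fin 6 → G} (h : Hex r) (hne : r 0 ≠ 1) : HasMS G := by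
  obtain ⟨π, hπ, -, hk⟩ := AGraded.exists_hom_finite h.stein (by simp)
  have hker := hk ⟨0, 1, by decide, 1, by simpa only [hexX, hexIdx, _root_.one_ne_zero, ↓ _root_.reduceIte, _root_.Fin.isValue, _root_.ne_eq] using hne⟩
  exact hasMS_sl_three_two.of_hom π fun x hx => hker hx

/-! ### `SU₃(3)` -/

open Cfsg.Agent.Classification.RTwo.UThreeThree in
/-- the six matrices -/
def su33 : Fin 6 → Matrix (Fin 3) (Fin 3) K9 :=
  ![!![⟨0, 0⟩, ⟨1, 2⟩, ⟨2, 1⟩; ⟨1, 1⟩, ⟨1, 0⟩, ⟨1, 0⟩; ⟨2, 2⟩, ⟨1, 0⟩, ⟨1, 0⟩],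
    !![⟨0, 0⟩, ⟨2, 1⟩, ⟨1, 2⟩; ⟨2, 2⟩, ⟨1, 0⟩, ⟨1, 0⟩; ⟨1, 1⟩, ⟨1, 0⟩, ⟨1, 0⟩],
    !![⟨1, 0⟩, ⟨2, 0⟩, ⟨1, 1⟩; ⟨2, 0⟩, ⟨1, 0⟩, ⟨1, 1⟩; ⟨1, 2⟩, ⟨1, 2⟩, ⟨0, 0⟩],
    !![⟨0, 0⟩, ⟨2, 0⟩, ⟨0, 0⟩; ⟨2, 0⟩, ⟨0, 0⟩, ⟨0, 0⟩; ⟨0, 0⟩, ⟨0, 0⟩, ⟨2, 0⟩],
    !![⟨0, 0⟩, ⟨1, 0⟩, ⟨0, 0⟩; ⟨1, 0⟩, ⟨0, 0⟩, ⟨0, 0⟩; ⟨0, 0⟩, ⟨0, 0⟩, ⟨2, 0⟩],
    !![⟨1, 0⟩, ⟨1, 0⟩, ⟨2, 2⟩; ⟨1, 0⟩, ⟨1, 0⟩, ⟨1, 1⟩; ⟨2, 1⟩, ⟨1, 2⟩, ⟨0, 0⟩]]

open Cfsg.Agent.Classification.RTwo.UThreeThree in
theorem su33_good : ∀ i, IsGood (su33 i) := by decide +kernel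

open Cfsg.Agent.Classification.RTwo.UThreeThree in
theorem hasMS_su_three_three {F : Type*} [Field F] [Fintype F] (hF : Fintype.card F = 9) :
    HasMS (SU 3 F 3) := by
  have hcard : Fintype.card F = Fintype.card K9 := by rw [hF, card_k9]
  obtain ⟨e⟩ : Nonempty (F ≃+* K9) := ⟨FiniteField.ringEquivOfCardEq hcard⟩
  refine HasMS.congr (LieClassical.FieldTransfer.suCongr 3 3 e).symm ?_
  refine hasMS_of_hex (r := fun i => (su33_good i).su) ⟨fun i => ?_, fun i => ?_, fun i => ?_⟩ ?_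
  · apply su_ext
    change su33 i * su33 i = 1
    revert i
    decide +kernel
  · apply su_ext
    change su33 i * su33 (i + 1) = su33 (i + 1) * su33 i
    revert i
    decide +kernel
  · apply su_ext
    change su33 i * su33 (i + 2) * su33 i * su33 (i + 2) = su33 (i + 1)
    revert i
    decide +kernel
  · intro h
    have h1 : su33 0 = 1 := congrArg Classification.RTwo.UThreeThree.mt h
    revert h1
    decide +kernel

/-! ### `SU₄(2)` -/

/-- the field with four elements -/
abbrev K4 := QuadraticAlgebra (ZMod 2) 1 1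

instance k4Fact : Fact (∀ r : ZMod 2, r ^ 2 ≠ 1 + 1 * r) := ⟨by decide⟩

noncomputable instance k4Fintype : Fintype K4 :=
  Fintype.ofEquiv _ (QuadraticAlgebra.equivProd (1 : ZMod 2) 1).symm

theorem card_k4 : Fintype.card K4 = 2 ^ 2 := by
  rw [Fintype.card_congr (QuadraticAlgebra.equivProd (1 : ZMod 2) 1)]
  rfl

def u42 : Fin 3 → Matrix (Fin 4) (Fin 4) K4 :=
  ![!![⟨0, 0⟩, ⟨1, 0⟩, ⟨1, 0⟩, ⟨1, 1⟩; ⟨0, 1⟩, ⟨0, 1⟩, ⟨0, 1⟩, ⟨0, 0⟩; ⟨1, 0⟩, ⟨1, 0⟩, ⟨0, 0⟩, ⟨1, 1⟩;
      ⟨1, 0⟩, ⟨0, 0⟩, ⟨1, 0⟩, ⟨1, 1⟩],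
    !![⟨0, 0⟩, ⟨0, 0⟩, ⟨0, 0⟩, ⟨1, 0⟩; ⟨1, 0⟩, ⟨0, 0⟩, ⟨0, 0⟩, ⟨0, 0⟩; ⟨0, 0⟩, ⟨0, 0⟩, ⟨1, 0⟩, ⟨0, 0⟩;
      ⟨0, 0⟩, ⟨1, 0⟩, ⟨0, 0⟩, ⟨0, 0⟩],
    !![⟨1, 0⟩, ⟨0, 0⟩, ⟨0, 0⟩, ⟨0, 0⟩; ⟨0, 0⟩, ⟨0, 0⟩, ⟨1, 0⟩, ⟨0, 0⟩; ⟨0, 0⟩, ⟨0, 0⟩, ⟨0, 0⟩, ⟨1, 0⟩;
      ⟨0, 0⟩, ⟨1, 0⟩, ⟨0, 0⟩, ⟨0, 0⟩]]

theorem u42_det : ∀ i, (u42 i).det = 1 := by
  intro i
  rw [Matrix.det_succ_row_zero]
  simp only [Fin.sum_univ_four, Matrix.det_fin_three]
  revert i
  decide +kernel

theorem u42_unitary : ∀ k, ∀ i j : Fin 4,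
    ∑ l : Fin 4, (u42 k) l i * ((u42 k) l j * (u42 k) l j) = if i = j then (1 : K4) else 0 := by decide +kernel

open Cfsg.Agent.LieClassical.GUOrder in
theorem u42_mem (k : Fin 3) : (⟨u42 k, u42_det k⟩ : Matrix.SpecialLinearGroup (Fin 4) K4) ∈ SU 4 K4 2 := by
  refine (mul_map_eq_one_iff card_k4 (u42 k)).2 (Matrix.ext fun i j => ?_)
  rw [Matrix.mul_apply, Matrix.one_apply, ← u42_unitary k i j]
  refine Finset.sum_congr rfl fun l _ => ?_
  rw [Matrix.transpose_apply, Matrix.map_apply, frob_apply, sq]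

theorem hasMS_su_four_two {F : Type*} [Field F] [Fintype F] (hF : Fintype.card F = 4) :
    HasMS (SU 4 F 2) := by
  have hcard : Fintype.card F = Fintype.card K4 := by rw [hF, card_k4]; norm_num
  obtain ⟨e⟩ : Nonempty (F ≃+* K4) := ⟨FiniteField.ringEquivOfCardEq hcard⟩
  refine HasMS.congr (LieClassical.FieldTransfer.suCongr 4 2 e).symm ?_
  have ext' : ∀ {x y : SU 4 K4 2}, x.1.1 = y.1.1 → x = y := fun h => Subtype.ext (Subtype.ext h)
  have cube : ∀ k, (⟨_, u42_mem k⟩ : SU 4 K4 2) ^ 3 = 1 := by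
    intro k
    rw [pow_succ, sq]
    apply ext'
    change u42 k * u42 k * u42 k = 1
    revert k
    decide +kernel
  have rel : ∀ k l, k < l → ((⟨_, u42_mem k⟩ : SU 4 K4 2) * ⟨_, u42_mem l⟩) ^ 2 = 1 := by
    intro k l
    rw [sq]
    intro h
    apply ext'
    change u42 k * u42 l * (u42 k * u42 l) = 1
    revert k l
    decide +kernel
  refine hasMS_of_triple (⟨_, u42_mem 0⟩ : SU 4 K4 2) ⟨_, u42_mem 1⟩ ⟨_, u42_mem 2⟩ (cube 0) (cube 1) (cube 2)
    (rel 0 1 (by decide)) (rel 0 2 (by decide)) (rel 1 2 (by decide)) fun h => ?_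
  have h1 : u42 0 = 1 := congrArg (fun x : SU 4 K4 2 => x.1.1) h
  revert h1
  decide +kernel

theorem hasMS_of_psu {G : Type*} [Group G] (h : IsPSU G) : HasMS G := by
  obtain ⟨F, _, _, n, q, hF, hn, hne, ⟨e⟩⟩ := h
  refine HasMS.congr e.symm (HasMS.quot_center ?_)
  have hq : 2 ≤ q := LieClassical.GUOrder.two_le hF
  rcases Nat.lt_or_ge 4 n with h5 | h4
  · exact hasMS_su_five hF h5
  have emb : ∀ {m : ℕ}, m ≤ n → HasMS (SU m F q) → HasMS (SU n F q) := fun {m} hm h =>
    h.of_injective _ (Phan.emb_injective hF 0 (by omega : 0 + m ≤ n))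
  rcases Nat.lt_or_ge q 4 with hq4 | hq4
  · interval_cases q
    · -- q = 2
      have hn4 : n = 4 := by
        have : n ≠ 3 := fun h => hne ⟨h, rfl⟩
        omega
      subst hn4
      exact hasMS_su_four_two (by rw [hF]; norm_num)
    · exact emb hn (hasMS_su_three_three (by rw [hF]; norm_num))
  · exact emb hn (hasMS_su_four_le hF hq4)

end Cfsg.Agent.H46.MS
end

-- part: H46/MSChev
section
/-!
# Minimal simple subgroups of the Chevalley groups of exceptional type (helper46)

A subsystem of type `A₂` gives `SL₃(F) → G`.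
-/

set_option autoImplicit false

namespace Cfsg.Agent.H46.MS

open Matrix Subgroup Cfsg Cfsg.Lie Cfsg.Agent.ChevalleyStructure.Elts
open scoped commutatorElement

/-- the root `e_i - e_j` of the subsystem with simple roots `a`, `b` and `c = a + b` -/
def rt (D : ChevalleyDatum) (a b c : ℕ) (i j : Fin 3) : ℕ :=
  if i = 0 then (if j = 1 then a else c) else if i = 1 then (if j = 2 then b else D.neg a)
  else if j = 0 then D.neg c else D.neg b

/-- `a`, `b`, `c = a + b` span a subsystem of type `A₂`, with structure constants one -/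
structure IsA2 (D : ChevalleyDatum) (a b c : ℕ) : Prop where
  lt : ∀ i j : Fin 3, i ≠ j → rt D a b c i j < D.nroots
  neg : ∀ i j : Fin 3, i ≠ j → D.neg (rt D a b c i j) = rt D a b c j i
  comm : ∀ i j k l : Fin 3, (i ≠ j ∧ k ≠ l ∧ j ≠ k ∧ i ≠ l) → rt D a b c i j = rt D a b c k l ∨
    (rt D a b c k l ≠ rt D a b c i j ∧ rt D a b c k l ≠ D.neg (rt D a b c i j) ∧
      D.commTerms (rt D a b c i j) (rt D a b c k l) = [])
  br : ∀ i j k : Fin 3, (i ≠ j ∧ j ≠ k ∧ i ≠ k) → rt D a b c j k ≠ rt D a b c i j ∧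
    rt D a b c j k ≠ D.neg (rt D a b c i j) ∧
      D.commTerms (rt D a b c i j) (rt D a b c j k) = [(rt D a b c i k, 1, 1, 1)]

section

variable {K₀ K : Type*} [Field K₀] [Field K] {D : ChevalleyDatum} (hD : InList D) {a b c : ℕ}
  (f : K₀ →+* K)

/-- the root elements -/
def rx (a b c : ℕ) (i j : Fin 3) (t : K₀) : GL D.Idx K := xG hD (rt D a b c i j) (f t)

theorem rx_stein (h : IsA2 D a b c) : AGraded.SteinRel (rx hD f a b c) := by
  have hcom : ∀ i j k l : Fin 3, i ≠ j → k ≠ l → j ≠ k → i ≠ l → ∀ s t : K₀,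
      rx hD f a b c i j s * rx hD f a b c k l t = rx hD f a b c k l t * rx hD f a b c i j s := by
    intro i j k l hij hkl hjk hil s t
    rcases h.comm i j k l ⟨hij, hkl, hjk, hil⟩ with e | ⟨h1, h2, h3⟩
    · unfold rx
      rw [e, xG_add, xG_add, add_comm]
    · have key := S1025.result (F := K) D hD _ _ (h.lt i j hij) (h.lt k l hkl) h1 h2 (f s) (f t)
      rw [ChevalleyDatum.commWord, h3] at key
      apply Units.ext
      change D.x K (rt D a b c i j) (f s) * D.x K (rt D a b c k l) (f t) =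
        D.x K (rt D a b c k l) (f t) * D.x K (rt D a b c i j) (f s)
      rw [key]
      simp only [ChevalleyDatum.wordMat, _root_.List.map_nil, _root_.List.prod_nil, _root_.mul_one]
  refine ⟨?_, hcom, ?_⟩
  · intro i j _ s t
    unfold rx
    rw [xG_add, map_add]
  · intro i j k hij hjk hik s t
    obtain ⟨h1, h2, h3⟩ := h.br i j k ⟨hij, hjk, hik⟩
    have key := S1025.result (F := K) D hD _ _ (h.lt i j hij) (h.lt j k hjk) h1 h2 (f s) (f t)
    have hz : D.wordMat K (D.commWord K (rt D a b c i j) (rt D a b c j k) (f s) (f t)) =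
        D.x K (rt D a b c i k) (-(f s * f t)) := by
      rw [ChevalleyDatum.commWord, h3]
      simp only [ChevalleyDatum.wordMat, _root_.List.map_cons, _root_.Int.cast_one, _root_.pow_one, _root_.mul_neg, _root_.one_mul, _root_.neg_mul, _root_.List.map_nil, _root_.List.prod_cons, _root_.List.prod_nil, _root_.mul_one]
    rw [hz] at key
    have key' : rx hD f a b c j k t * rx hD f a b c i j s =
        rx hD f a b c i j s * rx hD f a b c j k t * rx hD f a b c i k (-(s * t)) := by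
      apply Units.ext
      change D.x K _ _ * D.x K _ _ = D.x K _ _ * D.x K _ _ * D.x K _ (f (-(s * t)))
      rw [map_neg, map_mul]
      exact key
    have hinv : ∀ u : K₀, rx hD f a b c i k (-u) = (rx hD f a b c i k u)⁻¹ := by
      intro u
      unfold rx
      rw [xG_inv, map_neg]
    rw [hinv] at key'
    have c1 := hcom i j i k hij hik (Ne.symm hij) hik s (s * t)
    have c2 := hcom j k i k hjk hik (Ne.symm hik) hjk t (s * t)
    rw [commutatorElement_def]
    have e1 : rx hD f a b c i j s * rx hD f a b c j k t =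
        rx hD f a b c j k t * rx hD f a b c i j s * rx hD f a b c i k (s * t) := by
      rw [key']; group
    rw [e1, mul_assoc (rx hD f a b c j k t), c1, ← mul_assoc, c2]
    group

theorem rx_h (h : IsA2 D a b c) : CTFrame.Torus.HRel (rx hD f a b c) := by
  intro i j hij s t hs ht
  have hw : ∀ u : K₀, CTFrame.Weyl.w (rx hD f a b c) i j u = nG hD (rt D a b c i j) (f u) := by
    intro u
    unfold CTFrame.Weyl.w rx
    rw [nG_def, h.neg i j hij, map_neg, map_inv₀, mul_assoc]
  have ht' : ∀ u : K₀, CTFrame.Weyl.t (rx hD f a b c) i j u = hG hD (rt D a b c i j) (f u) := by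
    intro u
    unfold CTFrame.Weyl.t
    rw [hw, hw, hG_def, map_neg, map_one]
  rw [ht', ht', ht']
  apply Units.ext
  rw [Units.val_mul, coe_hG, coe_hG, coe_hG, map_mul]
  exact S1076.result D hD _ (h.lt i j hij) _ _ (by simpa using hs) (by simpa using ht)

theorem exists_sl_three (h : IsA2 D a b c) :
    ∃ π : Matrix.SpecialLinearGroup (Fin 3) K₀ →* GL D.Idx K,
      π.range = Subgroup.closure (AGraded.gens (rx hD f a b c)) ∧
      π.ker ≤ Subgroup.center (Matrix.SpecialLinearGroup (Fin 3) K₀) := by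
  obtain ⟨π, -, h2, h3⟩ := CTFrame.Hom.exists_hom (rx_stein hD f h) (rx_h hD f h) (by simp)
  refine ⟨π, h2, h3 ⟨0, 1, by decide, 1, ?_⟩⟩
  unfold rx
  rw [map_one, Ne, xG_eq_one_iff hD (h.lt 0 1 (by decide))]
  exact one_ne_zero

/-- the subgroup generated by the rational root elements of the subsystem -/
theorem hasMS_of_a2 [Finite K₀] (h : IsA2 D a b c) (S : Subgroup (GL D.Idx K))
    (hS : ∀ i j : Fin 3, i ≠ j → ∀ t : K₀, xG hD (rt D a b c i j) (f t) ∈ S) : HasMS ↥S := by
  obtain ⟨π, h1, h2⟩ := exists_sl_three hD f h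
  have hle : π.range ≤ S := by
    rw [h1, Subgroup.closure_le]
    rintro g ⟨i, j, hij, t, rfl⟩
    exact hS i j hij t
  have hr : HasMS ↥π.range := by
    refine (hasMS_sl_three K₀).of_hom π.rangeRestrict fun x hx => h2 ?_
    exact congrArg Subtype.val hx
  exact hr.of_le hle

end

theorem isA2_G2 : IsA2 chevG2 6 10 11 := ⟨by decide +kernel, by decide +kernel, by decide +kernel, by decide +kernel⟩
theorem isA2_F4 : IsA2 chevF4 0 24 1 := ⟨by decide +kernel, by decide +kernel, by decide +kernel, by decide +kernel⟩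
theorem isA2_E6 : IsA2 chevE6 39 46 47 := ⟨by decide +kernel, by decide +kernel, by decide +kernel, by decide +kernel⟩
theorem isA2_E7 : IsA2 chevE7 0 93 1 := ⟨by decide +kernel, by decide +kernel, by decide +kernel, by decide +kernel⟩
theorem isA2_E8 : IsA2 chevE8 0 120 1 := ⟨by decide +kernel, by decide +kernel, by decide +kernel, by decide +kernel⟩
theorem isA2_D4 : IsA2 chevD4 14 22 23 := ⟨by decide +kernel, by decide +kernel, by decide +kernel, by decide +kernel⟩

theorem hasMS_group {D : ChevalleyDatum} (hD : InList D) {a b c : ℕ} (h : IsA2 D a b c) (F : Type*) [Field F]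
    [Finite F] : HasMS ↥(D.group F) :=
  hasMS_of_a2 hD (RingHom.id F) h _ fun _ _ _ _ => xG_mem_group hD _ _

theorem hasMS_of_chevG2 {G : Type*} [Group G] (h : IsoChevG2 G) : HasMS G := by
  obtain ⟨F, _, _, -, ⟨e⟩⟩ := h
  exact (hasMS_group (by simp) isA2_G2 F).congr e.symm

theorem hasMS_of_F4 {G : Type*} [Group G] (h : IsoF4 G) : HasMS G := by
  obtain ⟨F, _, _, ⟨e⟩⟩ := h
  exact (hasMS_group (by simp) isA2_F4 F).congr e.symm

theorem hasMS_of_E6 {G : Type*} [Group G] (h : IsoChevE6 G) : HasMS G := by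
  obtain ⟨F, _, _, ⟨e⟩⟩ := h
  exact (hasMS_group (by simp) isA2_E6 F).congr e.symm

theorem hasMS_of_E7 {G : Type*} [Group G] (h : IsoE7 G) : HasMS G := by
  obtain ⟨F, _, _, ⟨e⟩⟩ := h
  exact (hasMS_group (by simp) isA2_E7 F).congr e.symm

theorem hasMS_of_E8 {G : Type*} [Group G] (h : IsoE8 G) : HasMS G := by
  obtain ⟨F, _, _, ⟨e⟩⟩ := h
  exact (hasMS_group (by simp) isA2_E8 F).congr e.symm

end Cfsg.Agent.H46.MS
end

private theorem dce_10eb615356d9 : _root_.True := by
  try have : _root_.True := by simp only [_root_.Cfsg.Agent.H46.MS.up.eq_1]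
  try have : _root_.True := by simp only [_root_.Cfsg.Agent.H46.MS.hexX.eq_1]
  try have : _root_.True := by simp only [_root_.Cfsg.Agent.H46.MS.symMat.eq_1]
  try have : _root_.True := by simp only [_root_.Cfsg.Agent.H46.MS.dblMat.eq_1]
  try have : _root_.True := by simp only [_root_.Cfsg.Agent.H46.MS.gramJ.eq_1]
  try have : _root_.True := by simp only [_root_.Cfsg.Lie.ChevalleyDatum.commWord.eq_1]
  try have : _root_.True := by simp only [_root_.Cfsg.Agent.H46.MS.basP.eq_1]
  try have : _root_.True := by simp only [_root_.Cfsg.Agent.H46.MS.rx.congr_simp]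
  try have : _root_.True := by simp only [_root_.Cfsg.Agent.H46.MS.hexIdx.eq_1]
  exact _root_.True.intro
end
end
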